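import Mathlib
import Groth.Prelude.Def_SGA3x
import Groth.Agent.Lib.Flatness.Artinian
import Groth.Agent.Lib.AlgSp.FppfDescent

/-!
# Essentially free morphisms: flatness, base change, and the Artinian case
-/

universe u

open CategoryTheory CategoryTheory.Limits AlgebraicGeometry

set_option backward.isDefEq.respectTransparency.types false

namespace GrothLib.EssFree

/-- The projectivity condition on an affine open of the source over an affine base. -/
def ProjOn {P T : Scheme.{u}} (p : P ⟶ T) (V : P.Opens) : Prop :=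
  letI := (V.ι ≫ p).appTop.hom.toAlgebra
  Module.Projective Γ(T, ⊤) Γ(↑V, ⊤)

/-- A morphism to an affine scheme which is affine-locally projective is flat. -/
theorem flat_of_projOn {P T : Scheme.{u}} [IsAffine T] (p : P ⟶ T)
    (h : ∀ x : P, ∃ V : P.Opens, x ∈ V ∧ IsAffineOpen V ∧ ProjOn p V) : Flat p := by
  choose V hxV hVa hV using h
  refine (IsZariskiLocalAtSource.iff_of_iSup_eq_top (P := (@AlgebraicGeometry.Flat : MorphismProperty Scheme.{u})) V
    (top_le_iff.1 fun x _ => TopologicalSpace.Opens.mem_iSup.2 ⟨x, hxV x⟩)).2 fun x => ?_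
  haveI : IsAffine (V x : Scheme.{u}) := hVa x
  rw [HasRingHomProperty.iff_of_isAffine (P := @Flat)]
  letI := ((V x).ι ≫ p).appTop.hom.toAlgebra
  haveI : Module.Projective Γ(T, ⊤) Γ(↑(V x), ⊤) := hV x
  exact (inferInstance : Module.Flat Γ(T, ⊤) Γ(↑(V x), ⊤))

theorem flat {X S : Scheme.{u}} {f : X ⟶ S} (h : SGA3x.IsEssentiallyFree f) : Flat f := by
  choose U hsU hUa S₁ hS₁ g hgf hgs hproj using h
  refine (IsZariskiLocalAtTarget.iff_of_iSup_eq_top (P := @Flat) U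
    (top_le_iff.1 fun s _ => TopologicalSpace.Opens.mem_iSup.2 ⟨s, hsU s⟩)).2 fun s => ?_
  haveI : IsAffine (U s : Scheme.{u}) := hUa s
  haveI := hS₁ s
  haveI := hgf s
  haveI := hgs s
  have h1 : Flat (pullback.snd f (g s ≫ (U s).ι)) := flat_of_projOn _ (hproj s)
  have h2 : Flat (pullback.snd (pullback.snd f (U s).ι) (g s)) := by
    rw [← pullbackLeftPullbackSndIso_hom_snd f (U s).ι (g s),
      MorphismProperty.cancel_left_of_respectsIso (P := @Flat)]
    exact h1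
  haveI := HasRingHomProperty.descendsAlong_flat (P := @Flat) AlgSp.codescendsAlong_flat
  have h3 : Flat (pullback.snd f (U s).ι) :=
    MorphismProperty.of_pullback_snd_of_descendsAlong (P := @Flat)
      (Q := @Surjective ⊓ @Flat ⊓ @QuasiCompact)
      ⟨⟨hgs s, hgf s⟩, inferInstance⟩ h2
  rw [← (isPullback_morphismRestrict f (U s)).flip.isoPullback_hom_snd,
    MorphismProperty.cancel_left_of_respectsIso (P := @Flat)]
  exact h3

theorem baseChange {X S S' : Scheme.{u}} {f : X ⟶ S} (g : S' ⟶ S) (h : SGA3x.IsEssentiallyFree f) :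
    SGA3x.IsEssentiallyFree (pullback.snd f g) := by
  intro s'
  obtain ⟨U, hsU, hUa, S₁, hS₁, h₁, hflat, hsurj, hproj⟩ := h (g s')
  obtain ⟨U', hU'a, hsU', hU'U⟩ :=
    exists_isAffineOpen_mem_and_subset (show s' ∈ g ⁻¹ᵁ U from hsU)
  have hU'U : U' ≤ g ⁻¹ᵁ U := hU'U
  haveI : IsAffine (U : Scheme.{u}) := hUa
  haveI : IsAffine (U' : Scheme.{u}) := hU'a
  let gU : (U' : Scheme.{u}) ⟶ U := g.resLE U U' hU'U
  have hgU : gU ≫ U.ι = U'.ι ≫ g := Scheme.Hom.resLE_comp_ι g hU'U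
  let k := pullback.snd gU h₁
  let h' := pullback.fst gU h₁
  refine ⟨U', hsU', hU'a, pullback gU h₁, inferInstance, h',
    MorphismProperty.pullback_fst _ _ hflat, MorphismProperty.pullback_fst _ _ hsurj, fun x => ?_⟩
  let p' := pullback.snd (pullback.snd f g) (h' ≫ U'.ι)
  let p := pullback.snd f (h₁ ≫ U.ι)
  let a : pullback (pullback.snd f g) (h' ≫ U'.ι) ⟶ pullback f (h₁ ≫ U.ι) :=
    pullback.lift (pullback.fst _ _ ≫ pullback.fst f g) (p' ≫ k) (by
      rw [Category.assoc, pullback.condition, ← Category.assoc, pullback.condition,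
        Category.assoc, Category.assoc, ← hgU, ← Category.assoc h', pullback.condition]
      simp [p', k, h'])
  have ha : IsPullback a p' p k := by
    have h0 : IsPullback ((pullback.fst _ _ : pullback (pullback.snd f g) (h' ≫ U'.ι) ⟶ _) ≫
        pullback.fst f g) p' f ((h' ≫ U'.ι) ≫ g) :=
      ((IsPullback.of_hasPullback (pullback.snd f g) (h' ≫ U'.ι)).flip.paste_vert
        (IsPullback.of_hasPullback f g).flip).flip
    have hk : (h' ≫ U'.ι) ≫ g = k ≫ h₁ ≫ U.ι := by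
      rw [Category.assoc, ← hgU, ← Category.assoc, pullback.condition, Category.assoc]
    refine IsPullback.of_right (h₁₂ := pullback.fst f (h₁ ≫ U.ι)) (h₂₂ := h₁ ≫ U.ι) (v₁₃ := f) ?_
      (pullback.lift_snd _ _ _) (IsPullback.of_hasPullback f (h₁ ≫ U.ι))
    rw [pullback.lift_fst, ← hk]
    exact h0
  obtain ⟨V, hxV, hVa, hV⟩ := hproj (a x)
  haveI : IsAffine (V : Scheme.{u}) := hVa
  haveI : IsAffineHom k := inferInstance
  haveI : IsAffineHom a := MorphismProperty.of_isPullback (P := @IsAffineHom) ha.flip inferInstance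
  refine ⟨a ⁻¹ᵁ V, hxV, hVa.preimage a, ?_⟩
  have hb : IsPullback (a ∣_ V) ((a ⁻¹ᵁ V).ι ≫ p') (V.ι ≫ p) k :=
    (isPullback_morphismRestrict a V).paste_vert ha
  have hpo := isPushout_appTop_of_isPullback hb
  letI : Algebra Γ(S₁, ⊤) Γ(↑V, ⊤) := (V.ι ≫ p).appTop.hom.toAlgebra
  letI : Algebra Γ(S₁, ⊤) Γ(pullback gU h₁, ⊤) := k.appTop.hom.toAlgebra
  letI : Algebra Γ(↑V, ⊤) Γ(↑(a ⁻¹ᵁ V), ⊤) := (a ∣_ V).appTop.hom.toAlgebra
  letI : Algebra Γ(pullback gU h₁, ⊤) Γ(↑(a ⁻¹ᵁ V), ⊤) := ((a ⁻¹ᵁ V).ι ≫ p').appTop.hom.toAlgebra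
  letI : Algebra Γ(S₁, ⊤) Γ(↑(a ⁻¹ᵁ V), ⊤) := ((V.ι ≫ p).appTop ≫ (a ∣_ V).appTop).hom.toAlgebra
  haveI : IsScalarTower Γ(S₁, ⊤) Γ(↑V, ⊤) Γ(↑(a ⁻¹ᵁ V), ⊤) := IsScalarTower.of_algebraMap_eq fun _ => rfl
  haveI : IsScalarTower Γ(S₁, ⊤) Γ(pullback gU h₁, ⊤) Γ(↑(a ⁻¹ᵁ V), ⊤) :=
    IsScalarTower.of_algebraMap_eq fun r => congrArg (fun q => q.hom r) hpo.w
  have hP : Algebra.IsPushout Γ(S₁, ⊤) Γ(pullback gU h₁, ⊤) Γ(↑V, ⊤) Γ(↑(a ⁻¹ᵁ V), ⊤) :=
    CommRingCat.isPushout_iff_isPushout.1 hpo.flip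
  haveI : Module.Projective Γ(S₁, ⊤) Γ(↑V, ⊤) := hV
  exact Module.Projective.of_equiv hP.out.equiv

/-- A flat module over a local Noetherian ring of dimension zero is projective. -/
theorem projective_of_flat {A M : Type u} [CommRing A] [IsNoetherianRing A] [IsLocalRing A]
    [Subsingleton (PrimeSpectrum A)] [AddCommGroup M] [Module A M] [Module.Flat A M] :
    Module.Projective A M := by
  have hnil : IsNilpotent (IsLocalRing.maximalIdeal A) := by
    have : IsLocalRing.maximalIdeal A ≤ nilradical A := by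
      rw [nilradical_eq_sInf]
      refine le_sInf fun p hp => ?_
      exact le_of_eq (congrArg PrimeSpectrum.asIdeal
        (Subsingleton.elim (IsLocalRing.closedPoint A) ⟨p, hp⟩))
    obtain ⟨n, hn⟩ := IsNoetherianRing.isNilpotent_nilradical A
    exact ⟨n, le_bot_iff.1 ((Ideal.pow_right_mono this n).trans hn.le)⟩
  haveI : Module.Free A M := Flatness.free_of_baseChange_flat (S := A) hnil (fun _ _ h => h)
  infer_instance

/-- Over a zero-dimensional locally Noetherian scheme flat morphisms are essentially free. -/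
theorem of_discrete {X S : Scheme.{u}} (f : X ⟶ S) [IsLocallyNoetherian S] [DiscreteTopology S] [Flat f] :
    SGA3x.IsEssentiallyFree f := by
  intro s
  obtain ⟨U, hU, hsU, hUs⟩ :=
    exists_isAffineOpen_mem_and_subset (U := (⟨{s}, isOpen_discrete _⟩ : S.Opens)) (Set.mem_singleton s)
  haveI : IsAffine (U : Scheme.{u}) := hU
  refine ⟨U, hsU, hU, U, inferInstance, 𝟙 _, inferInstance, inferInstance, fun x => ?_⟩
  obtain ⟨V, hV, hxV, -⟩ :=
    exists_isAffineOpen_mem_and_subset (x := x) (U := (⊤ : (pullback f (𝟙 _ ≫ U.ι)).Opens)) trivial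
  refine ⟨V, hxV, hV, ?_⟩
  haveI : IsAffine (V : Scheme.{u}) := hV
  haveI : IsNoetherianRing Γ((U : Scheme.{u}), ⊤) := IsLocallyNoetherian.component_noetherian ⟨⊤, isAffineOpen_top _⟩
  haveI : Subsingleton (U : Scheme.{u}) :=
    ⟨fun a b => Subtype.ext ((hUs a.2 : a.1 = s).trans (hUs b.2 : b.1 = s).symm)⟩
  haveI : Subsingleton (PrimeSpectrum Γ((U : Scheme.{u}), ⊤)) :=
    (U : Scheme.{u}).isoSpec.inv.homeomorph.toEquiv.subsingleton
  haveI : Nonempty (PrimeSpectrum Γ((U : Scheme.{u}), ⊤)) :=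
    ⟨(U : Scheme.{u}).isoSpec.hom ⟨s, hsU⟩⟩
  haveI : Nontrivial Γ((U : Scheme.{u}), ⊤) := PrimeSpectrum.nonempty_iff_nontrivial.1 inferInstance
  haveI : IsLocalRing Γ((U : Scheme.{u}), ⊤) := by
    obtain ⟨p⟩ := (inferInstance : Nonempty (PrimeSpectrum Γ((U : Scheme.{u}), ⊤)))
    refine IsLocalRing.of_unique_max_ideal ?_
    obtain ⟨m, hm⟩ := Ideal.exists_maximal Γ((U : Scheme.{u}), ⊤)
    exact ⟨m, hm, fun m' hm' => congrArg PrimeSpectrum.asIdeal
      (Subsingleton.elim (⟨m', hm'.isPrime⟩ : PrimeSpectrum _) ⟨m, hm.isPrime⟩)⟩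
  haveI : Flat (V.ι ≫ pullback.snd f (𝟙 _ ≫ U.ι)) := inferInstance
  letI := (V.ι ≫ pullback.snd f (𝟙 _ ≫ U.ι)).appTop.hom.toAlgebra
  haveI : Module.Flat Γ((U : Scheme.{u}), ⊤) Γ(↑V, ⊤) :=
    (HasRingHomProperty.iff_of_isAffine (P := @Flat)).1 ‹Flat (V.ι ≫ pullback.snd f (𝟙 _ ≫ U.ι))›
  exact projective_of_flat

end GrothLib.EssFree
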