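import Groth.Agent.Lib.EssFree.Basic
import Mathlib.AlgebraicGeometry.PullbackCarrier
import Mathlib.AlgebraicGeometry.Pullbacks
import Mathlib.AlgebraicGeometry.Restrict
import Mathlib.AlgebraicGeometry.Morphisms.OpenImmersion

/-!
Closed loci along morphisms which are locally projective as modules (essentially free morphisms).
-/

open CategoryTheory CategoryTheory.Limits AlgebraicGeometry
open scoped TensorProduct

namespace GrothLib.EssFree

universe u

/-- Over every affine open of the target the source is covered by affine opens whose rings of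
functions are projective modules over the ring of the base. -/
def ProjCover {Y T : Scheme.{u}} (p : Y ⟶ T) : Prop :=
  ∀ U : T.affineOpens, ∀ y : Y, p y ∈ U.1 →
    ∃ (B : CommRingCat.{u}) (θ : Γ(T, U) ⟶ B) (φ : Spec B ⟶ Y) (_ : IsOpenImmersion φ),
      y ∈ Set.range φ ∧ φ ≫ p = Spec.map θ ≫ U.2.fromSpec ∧
      letI := θ.hom.toAlgebra; Module.Projective Γ(T, U) B

/-- The factorisation of the base change of the identity through `e`. -/
def FactorsThrough {E Y T : Scheme.{u}} (p : Y ⟶ T) (e : E ⟶ Y) (T' : Scheme.{u}) (g : T' ⟶ T) : Prop :=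
  ∃ l : pullback p g ⟶ E, l ≫ e = pullback.fst p g

theorem factorsThrough_comp {E Y T : Scheme.{u}} (p : Y ⟶ T) (e : E ⟶ Y) {T' T'' : Scheme.{u}}
    (h : T'' ⟶ T') (g : T' ⟶ T) (H : FactorsThrough p e T' g) :
    FactorsThrough p e T'' (h ≫ g) := by
  obtain ⟨l, hl⟩ := H
  refine ⟨pullback.lift (pullback.fst p (h ≫ g)) (pullback.snd p (h ≫ g) ≫ h)
    (by rw [Category.assoc]; exact pullback.condition) ≫ l, ?_⟩
  rw [Category.assoc, hl, pullback.lift_fst]

theorem factorsThrough_of_local {E Y T : Scheme.{u}} (p : Y ⟶ T) (e : E ⟶ Y) [Mono e] {T' : Scheme.{u}}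
    (g : T' ⟶ T) (H : ∀ t : T', ∃ W : T'.Opens, t ∈ W ∧ FactorsThrough p e W (W.ι ≫ g)) :
    FactorsThrough p e T' g := by
  refine factors_of_local e _ fun q => ?_
  obtain ⟨W, hW, l, hl⟩ := H (pullback.snd p g q)
  let V := pullback.snd p g ⁻¹ᵁ W
  refine ⟨V, V.ι, inferInstance,
    pullback.lift (V.ι ≫ pullback.fst p g) ((pullback.snd p g) ∣_ W) ?_ ≫ l,
    by simpa [V] using hW, ?_⟩
  · rw [morphismRestrict_ι_assoc, Category.assoc, pullback.condition]
  · rw [Category.assoc, hl, pullback.lift_fst]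

theorem exists_ideal_factorsThrough {E Y T : Scheme.{u}} (p : Y ⟶ T) (e : E ⟶ Y) [IsClosedImmersion e]
    (hp : ProjCover p) (U : T.affineOpens) :
    ∃ I : Ideal Γ(T, U), ∀ {R : CommRingCat.{u}} (α : Γ(T, U) ⟶ R),
      FactorsThrough p e (Spec R) (Spec.map α ≫ U.2.fromSpec) ↔ I ≤ RingHom.ker α.hom := by
  choose B θ φ hφ hmem hcomp hproj using fun y : { y : Y // p y ∈ U.1 } => hp U y.1 y.2
  choose J hJ using fun y => exists_ideal_factors e (φ y)
  have key : ∀ y, ∃ I : Ideal Γ(T, U),
      letI := (θ y).hom.toAlgebra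
      ∀ (R : Type u) [CommRing R] [Algebra Γ(T, U) R],
        (∀ b ∈ J y, b ⊗ₜ[Γ(T, U)] (1 : R) = 0) ↔ I ≤ RingHom.ker (algebraMap Γ(T, U) R) := fun y => by
    let := (θ y).hom.toAlgebra
    have : Module.Projective Γ(T, U) (B y) := hproj y
    exact exists_coeff_ideal (M := (B y : Type u)) (J y : Set (B y))
  choose I hI using key
  refine ⟨⨆ y, I y, fun {R} α => ?_⟩
  let := α.hom.toAlgebra
  rw [iSup_le_iff]
  constructor
  · rintro ⟨l, hl⟩ y
    let := (θ y).hom.toAlgebra
    refine ((hI y) R).mp fun b hb => ?_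
    let il : B y ⟶ CommRingCat.of (B y ⊗[Γ(T, U)] R) :=
      CommRingCat.ofHom Algebra.TensorProduct.includeLeftRingHom
    let ir : R ⟶ CommRingCat.of (B y ⊗[Γ(T, U)] R) :=
      CommRingCat.ofHom (Algebra.TensorProduct.includeRight (A := B y)).toRingHom
    have hsq : θ y ≫ il = α ≫ ir := by
      ext a
      show algebraMap Γ(T, U) (B y) a ⊗ₜ[Γ(T, U)] (1 : R) =
        (1 : B y) ⊗ₜ[Γ(T, U)] algebraMap Γ(T, U) R a
      rw [Algebra.algebraMap_eq_smul_one, Algebra.algebraMap_eq_smul_one, TensorProduct.smul_tmul]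
    let c : Spec (CommRingCat.of (B y ⊗[Γ(T, U)] R)) ⟶ pullback p (Spec.map α ≫ U.2.fromSpec) :=
      pullback.lift (Spec.map il ≫ φ y) (Spec.map ir) (by
        rw [Category.assoc, hcomp, ← Category.assoc, ← Category.assoc, ← Spec.map_comp,
          ← Spec.map_comp, hsq])
    exact (hJ y il).mp ⟨c ≫ l, by rw [Category.assoc, hl, pullback.lift_fst]⟩ hb
  · intro h
    refine factors_of_local e _ fun q => ?_
    have hq : p (pullback.fst p (Spec.map α ≫ U.2.fromSpec) q) ∈ U.1 := by
      rw [← Scheme.Hom.comp_apply, pullback.condition, Scheme.Hom.comp_apply, Scheme.Hom.comp_apply]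
      exact U.2.range_fromSpec.le ⟨_, rfl⟩
    let y : { y : Y // p y ∈ U.1 } := ⟨_, hq⟩
    let := (θ y).hom.toAlgebra
    obtain ⟨l, hl⟩ := (hJ y (CommRingCat.ofHom
      (Algebra.TensorProduct.includeLeftRingHom : B y →+* B y ⊗[Γ(T, U)] R))).mpr
        (((hI y) R).mpr (h y))
    let u' := pullback.map (φ y ≫ p) (Spec.map α ≫ U.2.fromSpec) p (Spec.map α ≫ U.2.fromSpec)
      (φ y) (𝟙 _) (𝟙 _) (by simp) (by simp)
    have hu : IsOpenImmersion u' :=
      MorphismProperty.pullbackMap (P := @IsOpenImmersion) (hφ y) inferInstance rfl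
        (Category.id_comp _).symm
    let m : pullback (φ y ≫ p) (Spec.map α ≫ U.2.fromSpec) ⟶
        Spec (CommRingCat.of (B y ⊗[Γ(T, U)] R)) :=
      pullback.lift (f := Spec.map (CommRingCat.ofHom (algebraMap Γ(T, U) (B y))))
        (g := Spec.map (CommRingCat.ofHom (algebraMap Γ(T, U) R)))
        (pullback.fst _ _) (pullback.snd _ _) (by
          rw [← cancel_mono U.2.fromSpec, Category.assoc, Category.assoc]
          exact ((congrArg (pullback.fst (φ y ≫ p) (Spec.map α ≫ U.2.fromSpec) ≫ ·)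
            (hcomp y)).symm.trans pullback.condition)) ≫
        (pullbackSpecIso Γ(T, U) (B y) R).hom
    refine ⟨_, u', hu, m ≫ l, ?_, ?_⟩
    · rw [Scheme.Pullback.range_map]
      exact ⟨hmem y, ⟨_, rfl⟩⟩
    · rw [Category.assoc, hl, pullback.lift_fst, ← Category.assoc]
      congr 1
      rw [Category.assoc, ← pullbackSpecIso_inv_fst, Iso.hom_inv_id_assoc, pullback.lift_fst]

/-- **The closed locus.** For a closed subscheme of the source of an essentially free morphism, the
base changes on which it is everything are those factoring through a closed subscheme of the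
target. -/
theorem exists_closed_locus {E Y T : Scheme.{u}} (p : Y ⟶ T) (e : E ⟶ Y) [IsClosedImmersion e]
    (hp : ProjCover p) :
    ∃ (Z : Scheme.{u}) (ι : Z ⟶ T), IsClosedImmersion ι ∧
      ∀ {T' : Scheme.{u}} (g : T' ⟶ T), (∃ z : T' ⟶ Z, z ≫ ι = g) ↔ FactorsThrough p e T' g :=
  exists_closed_of_local (FactorsThrough p e) (factorsThrough_comp p e) (factorsThrough_of_local p e)
    (exists_ideal_factorsThrough p e hp)

end GrothLib.EssFree
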