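import Mathlib.AlgebraicGeometry.Morphisms.ClosedImmersion
import Mathlib.AlgebraicGeometry.IdealSheaf.Subscheme
import Mathlib.AlgebraicGeometry.Gluing
import Mathlib.RingTheory.TensorProduct.Basic
import Mathlib.Algebra.Module.Projective
import Mathlib.LinearAlgebra.DirectSum.Finsupp

/-!
Closed subschemes defined by an ideal on each affine open, and coefficient ideals of projective
modules.
-/

open CategoryTheory CategoryTheory.Limits AlgebraicGeometry
open scoped TensorProduct

namespace GrothLib.EssFree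

universe u v

/-- The ideal of coefficients of a subset of a projective module. -/
theorem exists_coeff_ideal {A : Type u} {M : Type v} [CommRing A] [AddCommGroup M] [Module A M]
    [Module.Projective A M] (J : Set M) :
    ∃ I : Ideal A, ∀ (R : Type u) [CommRing R] [Algebra A R],
      (∀ b ∈ J, b ⊗ₜ[A] (1 : R) = 0) ↔ I ≤ RingHom.ker (algebraMap A R) := by
  classical
  obtain ⟨s, hs⟩ := Module.projective_def'.mp ‹Module.Projective A M›
  have hsi : Function.Injective s := fun x y h => by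
    have hx := LinearMap.congr_fun hs x
    have hy := LinearMap.congr_fun hs y
    simp only [LinearMap.comp_apply, LinearMap.id_apply] at hx hy
    rw [← hx, h, hy]
  refine ⟨Ideal.span {a | ∃ b ∈ J, ∃ m, s b m = a}, fun R _ _ => ?_⟩
  rw [Ideal.span_le]
  constructor
  · rintro h _ ⟨b, hb, m, rfl⟩
    have h1 : TensorProduct.finsuppScalarLeft A R M (s.rTensor R (b ⊗ₜ[A] 1)) = 0 := by
      rw [h b hb, map_zero, map_zero]
    have h2 := congrArg (fun f : M →₀ R => f m) h1
    simpa [Algebra.algebraMap_eq_smul_one] using h2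
  · intro h b hb
    have h1 : s.rTensor R (b ⊗ₜ[A] (1 : R)) = 0 := by
      apply (TensorProduct.finsuppScalarLeft A R M).injective
      ext m
      have := h ⟨b, hb, m, rfl⟩
      simpa [Algebra.algebraMap_eq_smul_one] using this
    have h2 : ((Finsupp.linearCombination A id).rTensor R) (s.rTensor R (b ⊗ₜ[A] (1 : R))) =
        b ⊗ₜ[A] (1 : R) := by
      rw [← LinearMap.comp_apply, ← LinearMap.rTensor_comp, hs, LinearMap.rTensor_id,
        LinearMap.id_apply]
    rw [← h2, h1, map_zero]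

/-- Factorisation through a monomorphism is local on the source. -/
theorem factors_of_local {X Y E : Scheme.{u}} (e : E ⟶ Y) [Mono e] (h : X ⟶ Y)
    (H : ∀ x : X, ∃ (W : Scheme.{u}) (j : W ⟶ X) (_ : IsOpenImmersion j) (l : W ⟶ E),
      x ∈ Set.range j ∧ l ≫ e = j ≫ h) :
    ∃ l : X ⟶ E, l ≫ e = h := by
  choose W j hj l hx hl using H
  let 𝒰 : X.OpenCover := Scheme.Cover.mkOfCovers X W j
    (fun x => ⟨x, Set.mem_range.mp (hx x)⟩) hj
  have hcompat : ∀ a b, pullback.fst (𝒰.f a) (𝒰.f b) ≫ l a = pullback.snd (𝒰.f a) (𝒰.f b) ≫ l b :=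
    fun a b => by
      rw [← cancel_mono e, Category.assoc, Category.assoc]
      exact (congrArg (pullback.fst (𝒰.f a) (𝒰.f b) ≫ ·) (hl a)).trans
        ((pullback.condition_assoc h).trans
          (congrArg (pullback.snd (𝒰.f a) (𝒰.f b) ≫ ·) (hl b)).symm)
  refine ⟨𝒰.glueMorphisms l hcompat, 𝒰.hom_ext _ _ fun a => ?_⟩
  rw [Scheme.Cover.ι_glueMorphisms_assoc]
  exact hl a

/-- The test for factorisation of affine schemes through a closed immersion. -/
theorem exists_ideal_factors {E Y : Scheme.{u}} (e : E ⟶ Y) [IsClosedImmersion e] {B : CommRingCat.{u}}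
    (φ : Spec B ⟶ Y) :
    ∃ J : Ideal B, ∀ {C : CommRingCat.{u}} (θ : B ⟶ C),
      (∃ l : Spec C ⟶ E, l ≫ e = Spec.map θ ≫ φ) ↔ J ≤ RingHom.ker θ.hom := by
  have : IsClosedImmersion (pullback.snd e φ) :=
    MorphismProperty.pullback_snd e φ inferInstance
  obtain ⟨J, i, hi⟩ := IsClosedImmersion.Spec_iff.mp this
  refine ⟨J, fun {C} θ => ⟨?_, fun h => ?_⟩⟩
  · rintro ⟨l, hl⟩
    let m := Spec.preimage (pullback.lift l (Spec.map θ) hl ≫ i.hom)
    have hθ : θ = CommRingCat.ofHom (Ideal.Quotient.mk J) ≫ m := Spec.map_injective (by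
      rw [Spec.map_comp, Spec.map_preimage, Category.assoc, ← hi, pullback.lift_snd])
    intro b hb
    rw [RingHom.mem_ker, hθ]
    show m.hom (Ideal.Quotient.mk J b) = 0
    rw [Ideal.Quotient.eq_zero_iff_mem.mpr hb, map_zero]
  · let m : CommRingCat.of (B ⧸ J) ⟶ C := CommRingCat.ofHom (Ideal.Quotient.lift J θ.hom h)
    refine ⟨Spec.map m ≫ i.inv ≫ pullback.fst e φ, ?_⟩
    rw [Category.assoc, Category.assoc, pullback.condition, hi, Category.assoc,
      Iso.inv_hom_id_assoc, ← Category.assoc, ← Spec.map_comp]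
    congr 2

/-- A local family of conditions given by an ideal on each affine open is represented by a closed
subscheme. -/
theorem exists_closed_of_local {T : Scheme.{u}} (P : ∀ (T' : Scheme.{u}), (T' ⟶ T) → Prop)
    (hmono : ∀ {T' T'' : Scheme.{u}} (h : T'' ⟶ T') (g : T' ⟶ T), P T' g → P T'' (h ≫ g))
    (hloc : ∀ {T' : Scheme.{u}} (g : T' ⟶ T),
      (∀ t : T', ∃ W : T'.Opens, t ∈ W ∧ P W (W.ι ≫ g)) → P T' g)
    (haff : ∀ U : T.affineOpens, ∃ I : Ideal Γ(T, U), ∀ {R : CommRingCat.{u}} (α : Γ(T, U) ⟶ R),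
      P (Spec R) (Spec.map α ≫ U.2.fromSpec) ↔ I ≤ RingHom.ker α.hom) :
    ∃ (Z : Scheme.{u}) (ι : Z ⟶ T), IsClosedImmersion ι ∧
      ∀ {T' : Scheme.{u}} (g : T' ⟶ T), (∃ z : T' ⟶ Z, z ≫ ι = g) ↔ P T' g := by
  choose I hI using haff
  let 𝓘 : T.IdealSheafData :=
    { ideal := I
      map_ideal_basicOpen := fun U f => by
        let r : Γ(T, U) ⟶ Γ(T, T.affineBasicOpen f) :=
          T.presheaf.map (homOfLE <| T.basicOpen_le f).op
        have hr : Spec.map r ≫ U.2.fromSpec = (T.affineBasicOpen f).2.fromSpec :=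
          IsAffineOpen.map_fromSpec U.2 (T.affineBasicOpen f).2 _
        have key : ∀ {R : CommRingCat.{u}} (α : Γ(T, T.affineBasicOpen f) ⟶ R),
            I (T.affineBasicOpen f) ≤ RingHom.ker α.hom ↔
              (I U).map r.hom ≤ RingHom.ker α.hom := fun {R} α => by
          rw [← hI, ← hr, ← Category.assoc, ← Spec.map_comp, hI, Ideal.map_le_iff_le_comap,
            RingHom.comap_ker]
          rfl
        apply le_antisymm
        · have h := (key (R := CommRingCat.of (_ ⧸ I (T.affineBasicOpen f)))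
            (CommRingCat.ofHom (Ideal.Quotient.mk (I (T.affineBasicOpen f))))).mp
            (le_of_eq Ideal.mk_ker.symm)
          rwa [CommRingCat.hom_ofHom, Ideal.mk_ker] at h
        · have h := (key (R := CommRingCat.of (_ ⧸ (I U).map r.hom))
            (CommRingCat.ofHom (Ideal.Quotient.mk ((I U).map r.hom)))).mpr
            (le_of_eq Ideal.mk_ker.symm)
          rwa [CommRingCat.hom_ofHom, Ideal.mk_ker] at h }
  have haffZ : ∀ (U : T.affineOpens) {R : CommRingCat.{u}} (α : Γ(T, U) ⟶ R),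
      (∃ z : Spec R ⟶ 𝓘.subscheme, z ≫ 𝓘.subschemeι = Spec.map α ≫ U.2.fromSpec) ↔
        I U ≤ RingHom.ker α.hom := by
    intro U R α
    have hc : 𝓘.subschemeCover.f U ≫ 𝓘.subschemeι =
        Spec.map (CommRingCat.ofHom (Ideal.Quotient.mk (I U))) ≫ U.2.fromSpec := by
      rw [Scheme.IdealSheafData.subschemeCover_map_subschemeι,
        Scheme.IdealSheafData.glueDataObjι_ι]
    constructor
    · rintro ⟨z, hz⟩
      have hr : Set.range z ⊆ Set.range (𝓘.subschemeCover.f U) := by
        rintro _ ⟨x, rfl⟩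
        rw [← Scheme.Hom.coe_opensRange, Scheme.IdealSheafData.opensRange_subschemeCover_map]
        show 𝓘.subschemeι (z x) ∈ U.1
        rw [← Scheme.Hom.comp_apply, hz, Scheme.Hom.comp_apply]
        exact U.2.range_fromSpec.le ⟨_, rfl⟩
      let m := Spec.preimage (IsOpenImmersion.lift (𝓘.subschemeCover.f U) z hr)
      have hm : Spec.map m = IsOpenImmersion.lift (𝓘.subschemeCover.f U) z hr :=
        Spec.map_preimage _
      have hα : α = CommRingCat.ofHom (Ideal.Quotient.mk (I U)) ≫ m := Spec.map_injective (by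
        rw [← cancel_mono U.2.fromSpec, ← hz, Spec.map_comp, Category.assoc, ← hc]
        exact ((congrArg (fun q => q ≫ 𝓘.subschemeCover.f U ≫ 𝓘.subschemeι) hm).trans
          (IsOpenImmersion.lift_fac_assoc _ _ hr _)).symm)
      intro b hb
      rw [RingHom.mem_ker, hα]
      show m.hom (Ideal.Quotient.mk (I U) b) = 0
      rw [Ideal.Quotient.eq_zero_iff_mem.mpr hb]
      exact map_zero m.hom
    · intro h
      let m : CommRingCat.of (Γ(T, U) ⧸ I U) ⟶ R :=
        CommRingCat.ofHom (Ideal.Quotient.lift (I U) α.hom h)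
      refine ⟨Spec.map m ≫ 𝓘.subschemeCover.f U, ?_⟩
      rw [Category.assoc]
      refine (congrArg (Spec.map m ≫ ·) hc).trans ?_
      show Spec.map m ≫ Spec.map _ ≫ U.2.fromSpec = _
      rw [← Category.assoc, ← Spec.map_comp]
      congr 2
  refine ⟨𝓘.subscheme, 𝓘.subschemeι, inferInstance, fun {T'} g => ?_⟩
  have cover : ∀ t : T', ∃ (U : T.affineOpens) (W : T'.Opens) (_ : IsAffineOpen W)
      (α : Γ(T, U) ⟶ Γ(T', W)), t ∈ W ∧
      ∃ e : (W : Scheme) ≅ Spec Γ(T', W), W.ι ≫ g = e.hom ≫ Spec.map α ≫ U.2.fromSpec := by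
    intro t
    obtain ⟨_, ⟨U, hU, rfl⟩, hxU, -⟩ :=
      T.isBasis_affineOpens.exists_subset_of_mem_open (Set.mem_univ (g t)) isOpen_univ
    obtain ⟨_, ⟨W, hW, rfl⟩, htW, hWU⟩ :=
      T'.isBasis_affineOpens.exists_subset_of_mem_open (a := t) (show t ∈ (g ⁻¹ᵁ U : Set T') from hxU)
        (g ⁻¹ᵁ U).2
    have hWU' : W ≤ g ⁻¹ᵁ U := hWU
    refine ⟨⟨U, hU⟩, W, hW, g.appLE U W hWU', htW, hW.isoSpec, ?_⟩
    rw [IsAffineOpen.SpecMap_appLE_fromSpec g hU hW hWU', IsAffineOpen.fromSpec]
    simp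
  constructor
  · rintro ⟨z, hz⟩
    refine hloc g fun t => ?_
    obtain ⟨U, W, hW, α, htW, e, he⟩ := cover t
    refine ⟨W, htW, ?_⟩
    rw [he]
    exact hmono _ _ ((hI U α).mpr ((haffZ U α).mp
      ⟨e.inv ≫ W.ι ≫ z, by rw [Category.assoc, Category.assoc, hz, he, Iso.inv_hom_id_assoc]⟩))
  · intro hP
    refine factors_of_local 𝓘.subschemeι g fun t => ?_
    obtain ⟨U, W, hW, α, htW, e, he⟩ := cover t
    have h1 : P (Spec Γ(T', W)) (Spec.map α ≫ U.2.fromSpec) := by
      rw [show Spec.map α ≫ U.2.fromSpec = (e.inv ≫ W.ι) ≫ g by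
        rw [Category.assoc, he, Iso.inv_hom_id_assoc]]
      exact hmono _ _ hP
    obtain ⟨z, hz⟩ := (haffZ U α).mpr ((hI U α).mp h1)
    exact ⟨W, W.ι, inferInstance, e.hom ≫ z, by simpa using htW,
      by rw [Category.assoc, hz, ← he]⟩

end GrothLib.EssFree
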