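import Mathlib
import Groth.Agent.Lib.EssFree.Def
import Groth.Agent.Lib.EssFree.Proj
import Groth.Agent.Lib.SecLocus.Glue

/-!
The closed locus where a closed subscheme of an essentially free scheme is everything.
-/

open CategoryTheory CategoryTheory.Limits AlgebraicGeometry
open scoped TensorProduct

namespace GrothLib.EssFree

universe u v

/-- The ideal of coefficients of a finite subset of a projective module is finitely generated. -/
theorem exists_coeff_ideal_fg {A : Type u} {M : Type v} [CommRing A] [AddCommGroup M] [Module A M]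
    [Module.Projective A M] (J : Finset M) :
    ∃ I : Ideal A, I.FG ∧ ∀ (R : Type u) [CommRing R] [Algebra A R],
      (∀ b ∈ J, b ⊗ₜ[A] (1 : R) = 0) ↔ I ≤ RingHom.ker (algebraMap A R) := by
  classical
  obtain ⟨s, hs⟩ := Module.projective_def'.mp ‹Module.Projective A M›
  refine ⟨Ideal.span ↑(J.biUnion fun b => (s b).support.image fun m => s b m), ⟨_, rfl⟩, fun R _ _ => ?_⟩
  rw [Ideal.span_le]
  constructor
  · intro h x hx
    simp only [Finset.coe_biUnion, Set.mem_iUnion, Finset.coe_image, Set.mem_image, Finset.mem_coe] at hx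
    obtain ⟨b, hb, m, -, rfl⟩ := hx
    have h1 : TensorProduct.finsuppScalarLeft A R M (s.rTensor R (b ⊗ₜ[A] 1)) = 0 := by
      rw [h b hb, map_zero, map_zero]
    have h2 := congrArg (fun f : M →₀ R => f m) h1
    simpa [Algebra.algebraMap_eq_smul_one] using h2
  · intro h b hb
    have h1 : s.rTensor R (b ⊗ₜ[A] (1 : R)) = 0 := by
      apply (TensorProduct.finsuppScalarLeft A R M).injective
      ext m
      have : s b m • (1 : R) = 0 := by
        by_cases hm : m ∈ (s b).support
        · rw [← Algebra.algebraMap_eq_smul_one]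
          exact h (Finset.mem_biUnion.2 ⟨b, hb, Finset.mem_image.2 ⟨m, hm, rfl⟩⟩)
        · rw [Finsupp.notMem_support_iff.1 hm, zero_smul]
      simpa using this
    have h2 : ((Finsupp.linearCombination A id).rTensor R) (s.rTensor R (b ⊗ₜ[A] (1 : R))) =
        b ⊗ₜ[A] (1 : R) := by
      rw [← LinearMap.comp_apply, ← LinearMap.rTensor_comp, hs, LinearMap.rTensor_id,
        LinearMap.id_apply]
    rw [← h2, h1, map_zero]

/-- The test for factorisation through a closed immersion, with finite generation. -/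
theorem exists_ideal_factors_fg {E Y : Scheme.{u}} (e : E ⟶ Y) [IsClosedImmersion e] {B : CommRingCat.{u}}
    (φ : Spec B ⟶ Y) :
    ∃ J : Ideal B, (LocallyOfFinitePresentation e → J.FG) ∧ ∀ {C : CommRingCat.{u}} (θ : B ⟶ C),
      (∃ l : Spec C ⟶ E, l ≫ e = Spec.map θ ≫ φ) ↔ J ≤ RingHom.ker θ.hom := by
  have : IsClosedImmersion (pullback.snd e φ) :=
    MorphismProperty.pullback_snd e φ inferInstance
  obtain ⟨J, i, hi⟩ := IsClosedImmersion.Spec_iff.mp this
  refine ⟨J, fun he => ?_, fun {C} θ => ⟨?_, fun h => ?_⟩⟩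
  · have h1 : LocallyOfFinitePresentation (pullback.snd e φ) := MorphismProperty.pullback_snd e φ he
    rw [hi, MorphismProperty.cancel_left_of_respectsIso (P := @LocallyOfFinitePresentation),
      HasRingHomProperty.Spec_iff (P := @LocallyOfFinitePresentation)] at h1
    have h2 : Algebra.FinitePresentation B (B ⧸ J) := RingHom.finitePresentation_algebraMap.1 h1
    have h3 := Algebra.FinitePresentation.ker_fG_of_surjective (Ideal.Quotient.mkₐ B J)
      Ideal.Quotient.mk_surjective
    rwa [show RingHom.ker (Ideal.Quotient.mkₐ B J).toRingHom = J from Ideal.Quotient.mkₐ_ker B J] at h3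
  · rintro ⟨l, hl⟩
    let m := Spec.preimage (pullback.lift l (Spec.map θ) hl ≫ i.hom)
    have hθ : θ = CommRingCat.ofHom (Ideal.Quotient.mk J) ≫ m := Spec.map_injective (by
      rw [Spec.map_comp, Spec.map_preimage, Category.assoc, ← hi, pullback.lift_snd])
    intro b hb
    rw [RingHom.mem_ker, hθ]
    show m.hom (Ideal.Quotient.mk J b) = 0
    rw [Ideal.Quotient.eq_zero_iff_mem.mpr hb, map_zero]
  · let m : CommRingCat.of (B ⧸ J) ⟶ C := CommRingCat.ofHom (Ideal.Quotient.lift J θ.hom h)
    refine ⟨Spec.map m ≫ i.inv ≫ pullback.fst e φ, ?_⟩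
    rw [Category.assoc, Category.assoc, pullback.condition, hi, Category.assoc,
      Iso.inv_hom_id_assoc, ← Category.assoc, ← Spec.map_comp]
    congr 2

/-- The locus ideal over an affine base covered by charts with projective rings of functions. -/
theorem exists_ideal_charts {E Y : Scheme.{u}} {A : CommRingCat.{u}} (p : Y ⟶ Spec A) (e : E ⟶ Y)
    [IsClosedImmersion e]
    (hp : ∀ y : Y, ∃ (B : CommRingCat.{u}) (θ : A ⟶ B) (φ : Spec B ⟶ Y) (_ : IsOpenImmersion φ),
      y ∈ Set.range φ ∧ φ ≫ p = Spec.map θ ∧ letI := θ.hom.toAlgebra; Module.Projective A B) :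
    ∃ I : Ideal A, (CompactSpace Y → LocallyOfFinitePresentation e → I.FG) ∧ ∀ {R : CommRingCat.{u}}
      (α : A ⟶ R), FactorsThrough p e (Spec R) (Spec.map α) ↔ I ≤ RingHom.ker α.hom := by
  classical
  choose B θ φ hφ hmem hcomp hproj using hp
  obtain ⟨D, hD, hDfin⟩ : ∃ D : Set Y, (∀ y, ∃ d ∈ D, y ∈ Set.range (φ d)) ∧ (CompactSpace Y → D.Finite) := by
    by_cases hY : CompactSpace Y
    · haveI := hY
      obtain ⟨t, ht⟩ := isCompact_univ.elim_finite_subcover (fun y => Set.range (φ y))
        (fun y => (φ y).isOpenEmbedding.isOpen_range) fun y _ => Set.mem_iUnion.2 ⟨y, hmem y⟩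
      exact ⟨↑t, fun y => by simpa using ht (Set.mem_univ y), fun _ => t.finite_toSet⟩
    · exact ⟨Set.univ, fun y => ⟨y, trivial, hmem y⟩, fun h => absurd h hY⟩
  choose J hJfg hJ using fun y => exists_ideal_factors_fg e (φ y)
  have key : ∀ y, ∃ I : Ideal A, (LocallyOfFinitePresentation e → I.FG) ∧
      letI := (θ y).hom.toAlgebra
      ∀ (R : Type u) [CommRing R] [Algebra A R],
        (∀ b ∈ J y, b ⊗ₜ[A] (1 : R) = 0) ↔ I ≤ RingHom.ker (algebraMap A R) := fun y => by
    let := (θ y).hom.toAlgebra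
    have : Module.Projective A (B y) := hproj y
    by_cases he : LocallyOfFinitePresentation e
    · obtain ⟨F, hF⟩ := hJfg y he
      obtain ⟨I, hIfg, hI⟩ := exists_coeff_ideal_fg (A := A) (M := (B y : Type u)) F
      refine ⟨I, fun _ => hIfg, fun R _ _ => ⟨fun h => (hI R).1 fun b hb => h b (hF.le (Ideal.subset_span hb)),
        fun h b hb => ?_⟩⟩
      have h' := (hI R).2 h
      induction (hF.ge hb : b ∈ Ideal.span (↑F : Set (B y))) using Submodule.span_induction with
      | mem x hx => exact h' x hx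
      | zero => exact TensorProduct.zero_tmul _ _
      | add x z _ _ hx hz => rw [TensorProduct.add_tmul, hx (hF.le ‹_›), hz (hF.le ‹_›), add_zero]
      | smul c x _ hx =>
        rw [smul_eq_mul, ← _root_.mul_one (1 : R), ← Algebra.TensorProduct.tmul_mul_tmul, hx (hF.le ‹_›),
          mul_zero]
    · obtain ⟨I, hI⟩ := exists_coeff_ideal (A := A) (M := (B y : Type u)) (J y : Set (B y))
      exact ⟨I, fun h => absurd h he, hI⟩
  choose I hIfg hI using key
  refine ⟨⨆ y ∈ D, I y, fun hY he => ?_, fun {R} α => ?_⟩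
  · have := Submodule.fg_biSup (hDfin hY).toFinset I fun y _ => hIfg y he
    simp only [Set.Finite.mem_toFinset] at this
    exact this
  let := α.hom.toAlgebra
  rw [iSup₂_le_iff]
  constructor
  · rintro ⟨l, hl⟩ y _
    let := (θ y).hom.toAlgebra
    refine ((hI y) R).mp fun b hb => ?_
    let il : B y ⟶ CommRingCat.of (B y ⊗[A] R) :=
      CommRingCat.ofHom Algebra.TensorProduct.includeLeftRingHom
    let ir : R ⟶ CommRingCat.of (B y ⊗[A] R) :=
      CommRingCat.ofHom (Algebra.TensorProduct.includeRight (A := B y)).toRingHom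
    have hsq : θ y ≫ il = α ≫ ir := by
      ext a
      show algebraMap A (B y) a ⊗ₜ[A] (1 : R) = (1 : B y) ⊗ₜ[A] algebraMap A R a
      rw [Algebra.algebraMap_eq_smul_one, Algebra.algebraMap_eq_smul_one, TensorProduct.smul_tmul]
    let c : Spec (CommRingCat.of (B y ⊗[A] R)) ⟶ pullback p (Spec.map α) :=
      pullback.lift (Spec.map il ≫ φ y) (Spec.map ir) (by
        rw [Category.assoc, hcomp, ← Spec.map_comp, ← Spec.map_comp, hsq])
    exact (hJ y il).mp ⟨c ≫ l, by rw [Category.assoc, hl, pullback.lift_fst]⟩ hb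
  · intro h
    refine factors_of_local e _ fun q => ?_
    obtain ⟨y, hy, hq⟩ := hD (pullback.fst p (Spec.map α) q)
    let := (θ y).hom.toAlgebra
    obtain ⟨l, hl⟩ := (hJ y (CommRingCat.ofHom
      (Algebra.TensorProduct.includeLeftRingHom : B y →+* B y ⊗[A] R))).mpr
        (((hI y) R).mpr (h y hy))
    let u' := pullback.map (φ y ≫ p) (Spec.map α) p (Spec.map α) (φ y) (𝟙 _) (𝟙 _) (by simp) (by simp)
    have hu : IsOpenImmersion u' :=
      MorphismProperty.pullbackMap (P := @IsOpenImmersion) (hφ y) inferInstance rfl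
        (Category.id_comp _).symm
    let m : pullback (φ y ≫ p) (Spec.map α) ⟶ Spec (CommRingCat.of (B y ⊗[A] R)) :=
      pullback.lift (f := Spec.map (CommRingCat.ofHom (algebraMap A (B y))))
        (g := Spec.map (CommRingCat.ofHom (algebraMap A R)))
        (pullback.fst _ _) (pullback.snd _ _)
        ((congrArg (pullback.fst (φ y ≫ p) (Spec.map α) ≫ ·) (hcomp y)).symm.trans pullback.condition) ≫
        (pullbackSpecIso A (B y) R).hom
    refine ⟨_, u', hu, m ≫ l, ?_, ?_⟩
    · rw [Scheme.Pullback.range_map]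
      exact ⟨hq, ⟨_, rfl⟩⟩
    · rw [Category.assoc, hl, pullback.lift_fst, ← Category.assoc]
      congr 1
      rw [Category.assoc, ← pullbackSpecIso_inv_fst, Iso.hom_inv_id_assoc, pullback.lift_fst]

/-- Factorisation is the bijectivity of a base change of the immersion. -/
theorem factorsThrough_iff_isIso {E Y T : Scheme.{u}} (p : Y ⟶ T) (e : E ⟶ Y) [Mono e] {T' : Scheme.{u}}
    (g : T' ⟶ T) : FactorsThrough p e T' g ↔ IsIso (pullback.snd e (pullback.fst p g)) := by
  constructor
  · rintro ⟨l, hl⟩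
    haveI : IsSplitEpi (pullback.snd e (pullback.fst p g)) :=
      ⟨⟨⟨pullback.lift l (𝟙 _) (by rw [hl, Category.id_comp]), pullback.lift_snd _ _ _⟩⟩⟩
    exact isIso_of_mono_of_isSplitEpi _
  · intro h
    exact ⟨inv (pullback.snd e (pullback.fst p g)) ≫ pullback.fst e (pullback.fst p g), by
      rw [Category.assoc, pullback.condition, IsIso.inv_hom_id_assoc]⟩

/-- Factorisation after a base change of the base. -/
theorem factorsThrough_baseChange {E Y T T₁ : Scheme.{u}} (p : Y ⟶ T) (e : E ⟶ Y) (b : T₁ ⟶ T)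
    {T' : Scheme.{u}} (g : T' ⟶ T₁) :
    FactorsThrough (pullback.snd p b) (pullback.snd e (pullback.fst p b)) T' g ↔
      FactorsThrough p e T' (g ≫ b) := by
  let c : pullback p (g ≫ b) ⟶ pullback (pullback.snd p b) g :=
    pullback.lift (pullback.lift (pullback.fst _ _) (pullback.snd _ _ ≫ g) (by
      rw [Category.assoc]; exact pullback.condition)) (pullback.snd _ _) (pullback.lift_snd _ _ _)
  let d : pullback (pullback.snd p b) g ⟶ pullback p (g ≫ b) :=
    pullback.lift (pullback.fst _ _ ≫ pullback.fst p b) (pullback.snd _ _) (by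
      rw [Category.assoc, pullback.condition, ← Category.assoc, pullback.condition, Category.assoc])
  constructor
  · rintro ⟨l, hl⟩
    refine ⟨c ≫ l ≫ pullback.fst e (pullback.fst p b), ?_⟩
    rw [Category.assoc, Category.assoc, pullback.condition, ← Category.assoc l, hl, ← Category.assoc]
    simp only [c, pullback.lift_fst]
  · rintro ⟨l, hl⟩
    refine ⟨pullback.lift (d ≫ l) (pullback.fst _ _) (by rw [Category.assoc, hl, pullback.lift_fst]),
      pullback.lift_snd _ _ _⟩

set_option backward.isDefEq.respectTransparency.types false in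
/-- Factorisation descends along faithfully flat quasi-compact morphisms. -/
theorem factorsThrough_descend {E Y T : Scheme.{u}} (p : Y ⟶ T) (e : E ⟶ Y) [IsClosedImmersion e]
    {T' T'' : Scheme.{u}} (h : T'' ⟶ T') [Flat h] [Surjective h] [QuasiCompact h] (g : T' ⟶ T)
    (H : FactorsThrough p e T'' (h ≫ g)) : FactorsThrough p e T' g := by
  obtain ⟨l, hl⟩ := H
  let m := pullback.fst (pullback.snd p g) h
  haveI : Flat m := MorphismProperty.pullback_fst _ _ ‹Flat h›
  haveI : Surjective m := MorphismProperty.pullback_fst _ _ ‹Surjective h›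
  haveI : QuasiCompact m := MorphismProperty.pullback_fst _ _ ‹QuasiCompact h›
  rw [factorsThrough_iff_isIso]
  refine MorphismProperty.of_pullback_snd_of_descendsAlong (P := MorphismProperty.isomorphisms Scheme.{u})
    (Q := @Surjective ⊓ @Flat ⊓ @QuasiCompact) (g := m) ⟨⟨inferInstance, inferInstance⟩, inferInstance⟩ ?_
  let d : pullback (pullback.snd p g) h ⟶ pullback p (h ≫ g) :=
    pullback.lift (m ≫ pullback.fst p g) (pullback.snd _ _) (by
      rw [Category.assoc, pullback.condition, ← Category.assoc, pullback.condition, Category.assoc])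
  have h1 : (d ≫ l) ≫ e = m ≫ pullback.fst p g := by rw [Category.assoc, hl, pullback.lift_fst]
  let q := pullback.snd (pullback.snd e (pullback.fst p g)) m
  haveI : Mono q := inferInstance
  haveI : IsSplitEpi q :=
    ⟨⟨⟨pullback.lift (pullback.lift (d ≫ l) m h1) (𝟙 _) (by rw [pullback.lift_snd, Category.id_comp]),
      pullback.lift_snd _ _ _⟩⟩⟩
  exact isIso_of_mono_of_isSplitEpi q

/-- The ideal of a locus descends along a faithfully flat algebra. -/
theorem exists_ideal_descend {E Y T : Scheme.{u}} (p : Y ⟶ T) (e : E ⟶ Y) [IsClosedImmersion e]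
    {A A' : Type u} [CommRing A] [CommRing A'] [Algebra A A'] [Module.FaithfullyFlat A A']
    (b : Spec (CommRingCat.of A) ⟶ T) (I : Ideal A')
    (hI : ∀ {R : CommRingCat.{u}} (α : CommRingCat.of A' ⟶ R), FactorsThrough p e (Spec R)
      (Spec.map α ≫ Spec.map (CommRingCat.ofHom (algebraMap A A')) ≫ b) ↔ I ≤ RingHom.ker α.hom) :
    ∃ I₀ : Ideal A, (I.FG → I₀.FG) ∧ ∀ {R : CommRingCat.{u}} (α : CommRingCat.of A ⟶ R),
      FactorsThrough p e (Spec R) (Spec.map α ≫ b) ↔ I₀ ≤ RingHom.ker α.hom := by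
  classical
  let I₀ : Ideal A := I.comap (algebraMap A A')
  have hmap : I₀.map (algebraMap A A') = I := by
    refine le_antisymm Ideal.map_comap_le fun x hx => ?_
    let q : A ⧸ I₀ →ₗ[A] A' ⧸ I :=
      Submodule.liftQ _ ((Ideal.Quotient.mkₐ A I).toLinearMap.comp (Algebra.linearMap A A'))
        fun a ha => Ideal.Quotient.eq_zero_iff_mem.2 ha
    have hq : Function.Injective q := by
      rw [← LinearMap.ker_eq_bot]
      refine Submodule.ker_liftQ_eq_bot _ _ _ fun a ha => ?_
      exact (Ideal.Quotient.eq_zero_iff_mem (I := I)).1 ha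
    -- the two inclusions agree on the locus
    let D := A' ⊗[A] (A' ⧸ I)
    let p₁ : A' →ₐ[A] D := Algebra.TensorProduct.includeLeft
    let p₂ : A' →ₐ[A] D := Algebra.TensorProduct.includeRight.comp (Ideal.Quotient.mkₐ A I)
    have e12 : Spec.map (CommRingCat.ofHom p₁.toRingHom) ≫ Spec.map (CommRingCat.ofHom (algebraMap A A')) =
        Spec.map (CommRingCat.ofHom p₂.toRingHom) ≫ Spec.map (CommRingCat.ofHom (algebraMap A A')) := by
      rw [← Spec.map_comp, ← Spec.map_comp]
      congr 1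
      ext a
      exact (p₁.commutes a).trans (p₂.commutes a).symm
    have h2 : FactorsThrough p e _ (Spec.map (CommRingCat.ofHom p₂.toRingHom) ≫
        Spec.map (CommRingCat.ofHom (algebraMap A A')) ≫ b) :=
      (hI (CommRingCat.ofHom p₂.toRingHom)).2 fun z hz => by
        show (1 : A') ⊗ₜ[A] (Ideal.Quotient.mk I z) = 0
        rw [Ideal.Quotient.eq_zero_iff_mem.2 hz, TensorProduct.tmul_zero]
    rw [← reassoc_of% e12] at h2
    have h3 : x ⊗ₜ[A] (1 : A' ⧸ I) = 0 := (hI _).1 h2 hx
    have h4 : x ⊗ₜ[A] (1 : A ⧸ I₀) = 0 := by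
      apply Module.Flat.lTensor_preserves_injective_linearMap (M := A') q hq
      rw [map_zero, LinearMap.lTensor_tmul]
      rw [show q 1 = 1 from map_one (Ideal.Quotient.mk I) |>.symm ▸ by
        show Ideal.Quotient.mk I (algebraMap A A' 1) = _
        rw [map_one]]
      exact h3
    have h5 := congrArg (Algebra.TensorProduct.quotIdealMapEquivTensorQuot A' I₀).symm h4
    rw [map_zero, ← map_one (Ideal.Quotient.mk I₀), Algebra.TensorProduct.quotIdealMapEquivTensorQuot_symm_tmul] at h5
    simpa [Ideal.Quotient.eq_zero_iff_mem] using h5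
  refine ⟨I₀, fun hfg => ?_, fun {R} α => ?_⟩
  · obtain ⟨G, hG⟩ : ∃ G : Finset A, ↑G ⊆ (I₀ : Set A) ∧ (Ideal.span (↑G : Set A)).map (algebraMap A A') = I := by
      rw [← hmap, Ideal.map, ← Ideal.submodule_span_eq] at hfg
      obtain ⟨t, ht, hspan⟩ := Submodule.fg_span_iff_fg_span_finset_subset _ |>.1 hfg
      obtain ⟨G, hG, rfl⟩ := Finset.subset_set_image_iff.1 ht
      refine ⟨G, hG, ?_⟩
      conv_rhs => rw [← hmap, Ideal.map, ← Ideal.submodule_span_eq, hspan, Finset.coe_image]
      rw [Ideal.map_span]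
    have : Ideal.span (↑G : Set A) = I₀ := by
      rw [← Ideal.comap_map_eq_self_of_faithfullyFlat (B := A') (Ideal.span (↑G : Set A)), hG.2]
    exact ⟨G, this⟩
  · letI : Algebra A R := α.hom.toAlgebra
    let l : CommRingCat.of A' ⟶ CommRingCat.of (R ⊗[A] A') :=
      CommRingCat.ofHom (Algebra.TensorProduct.includeRight (R := A) (A := R) (B := A')).toRingHom
    let h := Spec.map (CommRingCat.ofHom
      (Algebra.TensorProduct.includeLeftRingHom : R →+* R ⊗[A] A'))
    have hsq : h ≫ Spec.map α ≫ b = Spec.map l ≫ Spec.map (CommRingCat.ofHom (algebraMap A A')) ≫ b := by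
      rw [← Spec.map_comp_assoc, ← Spec.map_comp_assoc]
      congr 2
      ext a
      show algebraMap A R a ⊗ₜ[A] (1 : A') = (1 : R) ⊗ₜ[A] algebraMap A A' a
      rw [Algebra.algebraMap_eq_smul_one, Algebra.algebraMap_eq_smul_one, TensorProduct.smul_tmul]
    have hff : Module.FaithfullyFlat R (R ⊗[A] A') := inferInstance
    have hinj : Function.Injective (algebraMap R (R ⊗[A] A')) := FaithfulSMul.algebraMap_injective _ _
    constructor
    · intro H a ha
      have h1 := (hI l).1 (by rw [← hsq]; exact factorsThrough_comp p e h _ H) ha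
      refine hinj ?_
      rw [map_zero]
      show algebraMap A R a ⊗ₜ[A] (1 : A') = 0
      rw [Algebra.algebraMap_eq_smul_one, TensorProduct.smul_tmul, ← Algebra.algebraMap_eq_smul_one]
      exact h1
    · intro H
      haveI : Flat h := by
        rw [Flat.SpecMap_iff]
        exact RingHom.flat_algebraMap_iff.2 inferInstance
      haveI : Surjective h := ⟨PrimeSpectrum.comap_surjective_of_faithfullyFlat⟩
      refine factorsThrough_descend p e h _ ?_
      rw [hsq]
      refine (hI l).2 ?_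
      rw [← hmap, Ideal.map_le_iff_le_comap]
      intro a ha
      show (1 : R) ⊗ₜ[A] algebraMap A A' a = 0
      rw [Algebra.algebraMap_eq_smul_one, ← TensorProduct.smul_tmul, ← Algebra.algebraMap_eq_smul_one,
        show algebraMap A R a = 0 from H ha, TensorProduct.zero_tmul]

set_option backward.isDefEq.respectTransparency.types false in
/-- The ideal of the locus on the affine open of a chart of an essentially free morphism. -/
theorem exists_ideal_chart {S Z Y : Scheme.{u}} (f : Z ⟶ S) (j : Y ⟶ Z) [IsClosedImmersion j]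
    (U : S.affineOpens) (S₁ : Scheme.{u}) [IsAffine S₁] (h₁ : S₁ ⟶ U.1) [Flat h₁] [Surjective h₁]
    (hproj : ∀ x : (pullback f (h₁ ≫ U.1.ι) : Scheme.{u}), ∃ V : (pullback f (h₁ ≫ U.1.ι)).Opens,
      x ∈ V ∧ IsAffineOpen V ∧ ProjOn (pullback.snd f (h₁ ≫ U.1.ι)) V) :
    ∃ I : Ideal Γ(S, U), (QuasiCompact f → LocallyOfFinitePresentation j → I.FG) ∧
      ∀ {R : CommRingCat.{u}} (α : Γ(S, U) ⟶ R),
        FactorsThrough f j (Spec R) (Spec.map α ≫ U.2.fromSpec) ↔ I ≤ RingHom.ker α.hom := by
  let γ : Γ(S, U) ⟶ Γ(S₁, ⊤) := Spec.preimage (S₁.isoSpec.inv ≫ h₁ ≫ U.2.isoSpec.hom)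
  have hγ : Spec.map γ = S₁.isoSpec.inv ≫ h₁ ≫ U.2.isoSpec.hom := Spec.map_preimage _
  let b := Spec.map γ ≫ U.2.fromSpec
  have hb : S₁.isoSpec.hom ≫ b = h₁ ≫ U.1.ι := by
    simp only [b, hγ, IsAffineOpen.fromSpec, Category.assoc, Iso.hom_inv_id_assoc]
  let e := pullback.snd j (pullback.fst f b)
  let m : pullback f (h₁ ≫ U.1.ι) ⟶ pullback f b :=
    pullback.map f (h₁ ≫ U.1.ι) f b (𝟙 _) S₁.isoSpec.hom (𝟙 _) (by simp) (by rw [Category.comp_id, hb])
  haveI : IsIso m := inferInstanceAs (IsIso (pullback.map _ _ _ _ _ _ _ _ _))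
  obtain ⟨I₁, hI₁fg, hI₁⟩ := exists_ideal_charts (pullback.snd f b) e fun y => by
    obtain ⟨x, rfl⟩ := m.homeomorph.surjective y
    obtain ⟨V, hxV, hVa, hV⟩ := hproj x
    haveI : IsAffine (V : Scheme.{u}) := hVa
    refine ⟨Γ(↑V, ⊤), (V.ι ≫ pullback.snd f (h₁ ≫ U.1.ι)).appTop,
      (V : Scheme.{u}).isoSpec.inv ≫ V.ι ≫ m, inferInstance, ?_, ?_, hV⟩
    · refine ⟨(V : Scheme.{u}).isoSpec.hom ⟨x, hxV⟩, ?_⟩
      rw [← Scheme.Hom.comp_apply, Iso.hom_inv_id_assoc]
      rfl
    · rw [Category.assoc, Category.assoc, pullback.lift_snd, ← Category.assoc V.ι,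
        ← Scheme.isoSpec_inv_naturality_assoc, Iso.inv_hom_id, Category.comp_id]
  have hflat : γ.hom.Flat := by
    rw [← Flat.SpecMap_iff, hγ]
    infer_instance
  letI := γ.hom.toAlgebra
  haveI : Module.Flat Γ(S, U) Γ(S₁, ⊤) := hflat
  haveI : Module.FaithfullyFlat Γ(S, U) Γ(S₁, ⊤) := by
    refine Module.FaithfullyFlat.of_comap_surjective fun q => ?_
    have : Surjective (Spec.map γ) := by rw [hγ]; infer_instance
    exact this.surj q
  obtain ⟨I, hIfg, hI⟩ := exists_ideal_descend f j (A := Γ(S, U)) (A' := Γ(S₁, ⊤)) U.2.fromSpec I₁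
    fun α => (factorsThrough_baseChange f j b (Spec.map α)).symm.trans (hI₁ α)
  refine ⟨I, fun _ _ => hIfg (hI₁fg ?_ (MorphismProperty.pullback_snd j _ ‹_›)), hI⟩
  haveI : QuasiCompact (pullback.snd f b) := MorphismProperty.pullback_snd f b ‹_›
  exact QuasiCompact.compactSpace_of_compactSpace (pullback.snd f b)

/-- A local condition on algebras which is decided by a finitely generated ideal near every prime is
decided by a finitely generated ideal. -/
theorem exists_ideal_of_local' {A : Type u} [CommRing A] (C₀ : Prop)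
    (Q : ∀ (R : Type u) [CommRing R] [Algebra A R], Prop)
    (hmono : ∀ (R R' : Type u) [CommRing R] [CommRing R'] [Algebra A R] [Algebra A R'],
      (R →ₐ[A] R') → Q R → Q R')
    (hloc : ∀ (R : Type u) [CommRing R] [Algebra A R],
      (∀ p : PrimeSpectrum R, ∃ a ∉ p.asIdeal, Q (Localization.Away a)) → Q R)
    (h : ∀ p : PrimeSpectrum A, ∃ a ∉ p.asIdeal, ∃ L : Ideal (Localization.Away a), (C₀ → L.FG) ∧
      ∀ (R : Type u) [CommRing R] [Algebra A R] [Algebra (Localization.Away a) R]
        [IsScalarTower A (Localization.Away a) R],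
        Q R ↔ L ≤ RingHom.ker (algebraMap (Localization.Away a) R)) :
    ∃ I : Ideal A, (C₀ → I.FG) ∧ ∀ (R : Type u) [CommRing R] [Algebra A R],
      Q R ↔ I ≤ RingHom.ker (algebraMap A R) := by
  classical
  choose a ha L hLfg hL using h
  have hLσ : ∀ (p : PrimeSpectrum A) (R : Type u) [CommRing R] [Algebra A R]
      (σ : Localization.Away (a p) →ₐ[A] R), Q R ↔ ∀ b ∈ L p, σ b = 0 := fun p R _ _ σ => by
    letI : Algebra (Localization.Away (a p)) R := σ.toRingHom.toAlgebra
    haveI : IsScalarTower A (Localization.Away (a p)) R := IsScalarTower.of_algHom σ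
    exact hL p R
  obtain ⟨t, ht⟩ := CompactSpace.elim_nhds_subcover
    (fun p => (PrimeSpectrum.basicOpen (a p) : Set (PrimeSpectrum A)))
    (fun p => (PrimeSpectrum.basicOpen (a p)).2.mem_nhds (ha p))
  let κ : Type u := {p : PrimeSpectrum A // p ∈ t}
  let C : κ → Type u := fun k => Localization.Away (a k.1)
  have hflat : ∀ k : κ, Module.Flat A (C k) := fun k =>
    IsLocalization.flat (Localization.Away (a k.1)) (Submonoid.powers (a k.1))
  have hcov : ∀ p : PrimeSpectrum A, ∃ k : κ, a k.1 ∉ p.asIdeal := fun p => by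
    obtain ⟨q, hq, hpq⟩ := Set.mem_iUnion₂.1 (ht.ge (Set.mem_univ p))
    exact ⟨⟨q, hq⟩, hpq⟩
  have hsurj : ∀ p : PrimeSpectrum A, ∃ k : κ, ∃ q : PrimeSpectrum (C k),
      PrimeSpectrum.comap (algebraMap A (C k)) q = p := fun p => by
    obtain ⟨k, hk⟩ := hcov p
    exact ⟨k, (PrimeSpectrum.localization_away_comap_range (Localization.Away (a k.1)) (a k.1)).ge hk⟩
  let I : Ideal A := ⨅ k : κ, (L k.1).comap (algebraMap A (C k))
  have hLI : ∀ k : κ, L k.1 = I.map (algebraMap A (C k)) := by
    intro k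
    refine le_antisymm ?_ (Ideal.map_le_iff_le_comap.2 (iInf_le _ k))
    refine IdealDescFpqc.le_map_iInf_comap C (C k) (fun i => L i.1) (L k.1) fun i => ?_
    let K : Ideal (C k ⊗[A] C i) := (L i.1).map
      (Algebra.TensorProduct.includeRight : C i →ₐ[A] C k ⊗[A] C i).toRingHom
    let σi : C i →ₐ[A] (C k ⊗[A] C i) ⧸ K :=
      (Ideal.Quotient.mkₐ A K).comp Algebra.TensorProduct.includeRight
    let σk : C k →ₐ[A] (C k ⊗[A] C i) ⧸ K :=
      (Ideal.Quotient.mkₐ A K).comp Algebra.TensorProduct.includeLeft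
    have hQ : Q ((C k ⊗[A] C i) ⧸ K) :=
      (hLσ i.1 ((C k ⊗[A] C i) ⧸ K) σi).2 fun b hb =>
        Ideal.Quotient.eq_zero_iff_mem.2 (Ideal.mem_map_of_mem _ hb)
    have hk : ∀ b ∈ L k.1, σk b = 0 := (hLσ k.1 ((C k ⊗[A] C i) ⧸ K) σk).1 hQ
    refine Ideal.map_le_iff_le_comap.2 fun b hb => ?_
    exact (Ideal.Quotient.eq_zero_iff_mem (I := K)).1 (hk b hb)
  refine ⟨I, fun hC => ?_, fun R _ _ => ⟨fun hR x hx => ?_, fun hR => hloc R fun p => ?_⟩⟩
  · refine Ideal.fg_of_localizationSpan (Set.range fun k : κ => a k.1) ?_ ?_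
    · by_contra hne
      obtain ⟨m, hm, hle⟩ := Ideal.exists_le_maximal _ hne
      obtain ⟨k, hk⟩ := hcov ⟨m, hm.isPrime⟩
      exact hk (hle (Ideal.subset_span ⟨k, rfl⟩))
    · rintro ⟨_, k, rfl⟩
      exact hLI k ▸ hLfg k.1 hC
  · refine SecLocus.eq_zero_of_forall_tmul C hsurj (show R from algebraMap A R x) fun k => ?_
    let σ : C k →ₐ[A] R ⊗[A] C k := Algebra.TensorProduct.includeRight
    have h1 : ∀ b ∈ L k.1, σ b = 0 :=
      (hLσ k.1 (R ⊗[A] C k) σ).1 (hmono R _ Algebra.TensorProduct.includeLeft hR)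
    have h2 : σ (algebraMap A (C k) x) = 0 := h1 _ (Ideal.mem_iInf.1 hx k)
    rw [AlgHom.commutes] at h2
    exact h2
  · obtain ⟨k, hk⟩ := hcov (PrimeSpectrum.comap (algebraMap A R) p)
    refine ⟨algebraMap A R (a k.1), hk, ?_⟩
    have hu : IsUnit (algebraMap A (Localization.Away (algebraMap A R (a k.1))) (a k.1)) := by
      rw [IsScalarTower.algebraMap_apply A R (Localization.Away (algebraMap A R (a k.1)))]
      exact IsLocalization.Away.algebraMap_isUnit _
    letI : Algebra (Localization.Away (a k.1)) (Localization.Away (algebraMap A R (a k.1))) :=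
      (IsLocalization.Away.lift (S := Localization.Away (a k.1)) (a k.1) hu).toAlgebra
    haveI : IsScalarTower A (Localization.Away (a k.1)) (Localization.Away (algebraMap A R (a k.1))) :=
      IsScalarTower.of_algebraMap_eq fun x =>
        (IsLocalization.Away.lift_eq (S := Localization.Away (a k.1)) (a k.1) hu x).symm
    refine (hL k.1 _).2 ?_
    rw [show L k.1 = I.map (algebraMap A (C k)) from hLI k, Ideal.map_le_iff_le_comap]
    intro x hx
    show algebraMap (Localization.Away (a k.1)) (Localization.Away (algebraMap A R (a k.1)))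
      (algebraMap A (Localization.Away (a k.1)) x) = 0
    rw [← IsScalarTower.algebraMap_apply,
      IsScalarTower.algebraMap_apply A R (Localization.Away (algebraMap A R (a k.1))),
      show algebraMap A R x = 0 from hR hx, map_zero]

set_option backward.isDefEq.respectTransparency.types false in
/-- **The Weil restriction of a closed subscheme along an essentially free morphism.** -/
theorem exists_closed_essFree {S Z Y : Scheme.{u}} (f : Z ⟶ S) (hf : SGA3x.IsEssentiallyFree f)
    (j : Y ⟶ Z) [IsClosedImmersion j] :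
    ∃ (T : Scheme.{u}) (t : T ⟶ S), IsClosedImmersion t ∧
      (∀ (S' : Scheme.{u}) (g : S' ⟶ S), (∃ g' : S' ⟶ T, g' ≫ t = g) ↔ FactorsThrough f j S' g) ∧
      (QuasiCompact f → LocallyOfFinitePresentation j → LocallyOfFinitePresentation t) := by
  choose U₁ hsU₁ hU₁a S₁ hS₁ h₁ hflat hsurj hproj using hf
  have hchart := fun s => by
    haveI := hS₁ s
    haveI := hflat s
    haveI := hsurj s
    exact exists_ideal_chart f j ⟨U₁ s, hU₁a s⟩ (S₁ s) (h₁ s) (hproj s)
  choose I₁ hI₁fg hI₁ using hchart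
  let C₀ : Prop := QuasiCompact f ∧ LocallyOfFinitePresentation j
  have haff : ∀ U : S.affineOpens, ∃ I : Ideal Γ(S, U), (C₀ → I.FG) ∧
      ∀ {R : CommRingCat.{u}} (α : Γ(S, U) ⟶ R),
        FactorsThrough f j (Spec R) (Spec.map α ≫ U.2.fromSpec) ↔ I ≤ RingHom.ker α.hom := by
    intro U
    refine (fun ⟨I, hIfg, hI⟩ => ⟨I, hIfg, fun {R} α => by
        letI := α.hom.toAlgebra
        exact hI R⟩) ( exists_ideal_of_local' C₀ (A := Γ(S, U))
      (fun R _ _ => FactorsThrough f j (Spec (CommRingCat.of R))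
        (Spec.map (CommRingCat.ofHom (algebraMap Γ(S, U) R)) ≫ U.2.fromSpec))
      (fun R R' _ _ _ _ σ h => by
        have := factorsThrough_comp f j (Spec.map (CommRingCat.ofHom σ.toRingHom)) _ h
        rwa [← Spec.map_comp_assoc, ← CommRingCat.ofHom_comp,
          show σ.toRingHom.comp (algebraMap Γ(S, U) R) = algebraMap Γ(S, U) R' from σ.comp_algebraMap] at this)
      (fun R _ _ h => SecLocus.factorsThrough_hloc f j _ fun p => by
        obtain ⟨a, ha, hQ⟩ := h p
        refine ⟨a, ha, ?_⟩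
        rwa [← Spec.map_comp_assoc, ← CommRingCat.ofHom_comp, ← IsScalarTower.algebraMap_eq])
      fun p => ?_)
    let s := U.2.fromSpec p
    have hsU : s ∈ U.1 := U.2.range_fromSpec.le ⟨p, rfl⟩
    obtain ⟨a, a', haa', hsa⟩ := exists_basicOpen_le_affine_inter U.2 (hU₁a s) s ⟨hsU, hsU₁ s⟩
    have hpa : p ∈ PrimeSpectrum.basicOpen a := by
      exact (U.2.fromSpec_preimage_basicOpen a).le hsa
    refine ⟨a, hpa, ?_⟩
    let o := Spec.map (CommRingCat.ofHom (algebraMap Γ(S, U) (Localization.Away a))) ≫ U.2.fromSpec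
    have ho : Set.range o ⊆ Set.range (hU₁a s).fromSpec := by
      rintro _ ⟨q, rfl⟩
      rw [(hU₁a s).range_fromSpec]
      refine S.basicOpen_le a' ?_
      rw [← haa']
      have hq : Spec.map (CommRingCat.ofHom (algebraMap Γ(S, U) (Localization.Away a))) q ∈
          PrimeSpectrum.basicOpen a :=
        (PrimeSpectrum.localization_away_comap_range (Localization.Away a) a).le ⟨q, rfl⟩
      exact (U.2.fromSpec_preimage_basicOpen a).ge hq
    let γ : Γ(S, U₁ s) ⟶ CommRingCat.of (Localization.Away a) :=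
      Spec.preimage (IsOpenImmersion.lift (hU₁a s).fromSpec o ho)
    have hγ : Spec.map γ ≫ (hU₁a s).fromSpec = o := by
      rw [Spec.map_preimage, IsOpenImmersion.lift_fac]
    refine ⟨(I₁ s).map γ.hom, fun hC => (hI₁fg s hC.1 hC.2).map _, fun R _ _ _ _ => ?_⟩
    have h := hI₁ s (γ ≫ CommRingCat.ofHom (algebraMap (Localization.Away a) R))
    rw [Spec.map_comp, Category.assoc, hγ, ← Spec.map_comp_assoc, ← CommRingCat.ofHom_comp,
      ← IsScalarTower.algebraMap_eq] at h
    rw [h, Ideal.map_le_iff_le_comap, RingHom.comap_ker]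
    rfl
  choose I hIfg hI using haff
  obtain ⟨T, t, ht, hT⟩ := exists_closed_of_local (FactorsThrough f j) (factorsThrough_comp f j)
    (factorsThrough_of_local f j) fun U => ⟨I U, hI U⟩
  refine ⟨T, t, ht, fun S' g => hT g, fun hqc hfp => ?_⟩
  refine (IsZariskiLocalAtTarget.iff_of_iSup_eq_top (P := @LocallyOfFinitePresentation)
    (fun U : S.affineOpens => U.1) (iSup_affineOpens_eq_top S)).2 fun U => ?_
  rw [← MorphismProperty.cancel_right_of_respectsIso (P := @LocallyOfFinitePresentation) _ U.2.isoSpec.hom]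
  obtain ⟨J, i, hi⟩ := IsClosedImmersion.Spec_iff.mp
    (inferInstance : IsClosedImmersion (t ∣_ U.1 ≫ U.2.isoSpec.hom))
  have hres : i.inv ≫ (t ⁻¹ᵁ U.1).ι ≫ t =
      Spec.map (CommRingCat.ofHom (Ideal.Quotient.mk J)) ≫ U.2.fromSpec := by
    rw [← morphismRestrict_ι, IsAffineOpen.fromSpec, ← Iso.inv_hom_id_assoc i (Spec.map _),
      ← hi]
    simp
  have h1 : I U ≤ J := by
    have := (hI U (CommRingCat.ofHom (Ideal.Quotient.mk J))).1
      ((hT _).1 ⟨i.inv ≫ (t ⁻¹ᵁ U.1).ι, (Category.assoc _ _ _).trans hres⟩)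
    rwa [CommRingCat.hom_ofHom, Ideal.mk_ker] at this
  have h2 : J ≤ I U := by
    obtain ⟨z, hz⟩ := (hT _).2 ((hI U (CommRingCat.ofHom (Ideal.Quotient.mk (I U)))).2
      (le_of_eq Ideal.mk_ker.symm))
    have hr : Set.range z ⊆ Set.range (t ⁻¹ᵁ U.1).ι := by
      rintro _ ⟨x, rfl⟩
      rw [Scheme.Opens.range_ι]
      show t (z x) ∈ U.1
      rw [← Scheme.Hom.comp_apply, hz, Scheme.Hom.comp_apply]
      exact U.2.range_fromSpec.le ⟨_, rfl⟩
    let l := IsOpenImmersion.lift (t ⁻¹ᵁ U.1).ι z hr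
    have hl : (l ≫ i.hom) ≫ Spec.map (CommRingCat.ofHom (Ideal.Quotient.mk J)) =
        Spec.map (CommRingCat.ofHom (Ideal.Quotient.mk (I U))) := by
      rw [← cancel_mono U.2.fromSpec, ← hz, Category.assoc, Category.assoc, ← hres,
        Iso.hom_inv_id_assoc, IsOpenImmersion.lift_fac_assoc]
    have hm : CommRingCat.ofHom (Ideal.Quotient.mk (I U)) =
        CommRingCat.ofHom (Ideal.Quotient.mk J) ≫ Spec.preimage (l ≫ i.hom) := Spec.map_injective (by
      rw [Spec.map_comp, Spec.map_preimage, hl])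
    intro x hx
    refine Ideal.Quotient.eq_zero_iff_mem.1 ((congrArg (fun φ => φ.hom x) hm).trans ?_)
    show (Spec.preimage (l ≫ i.hom)).hom (Ideal.Quotient.mk J x) = 0
    rw [Ideal.Quotient.eq_zero_iff_mem.2 hx, map_zero]
  rw [hi, MorphismProperty.cancel_left_of_respectsIso (P := @LocallyOfFinitePresentation),
    HasRingHomProperty.Spec_iff (P := @LocallyOfFinitePresentation)]
  exact RingHom.finitePresentation_algebraMap.2
    (Algebra.FinitePresentation.quotient ((le_antisymm h1 h2) ▸ hIfg U ⟨hqc, hfp⟩))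

end GrothLib.EssFree
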