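import Groth.Agent.Lib.EssFree.Proj
import Groth.Agent.Lib.GrpSchField.Shear
import Mathlib.AlgebraicGeometry.Morphisms.Finite
import Mathlib.AlgebraicGeometry.Morphisms.Flat
import Mathlib.AlgebraicGeometry.Morphisms.FinitePresentation
import Mathlib.RingTheory.Flat.EquationalCriterion
import Mathlib.RingTheory.Finiteness.ModuleFinitePresentation
import Mathlib.LinearAlgebra.FreeModule.Basic

/-!
Closed loci of points: the essentially free cases over a field and for finite locally free schemes.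
-/

open CategoryTheory CategoryTheory.Limits MonoidalCategory CartesianMonoidalCategory AlgebraicGeometry
open scoped TensorProduct

namespace GrothLib.EssFree

universe u

theorem projective_toAlgebra {A B : Type*} [CommRing A] [CommRing B] [inst : Algebra A B]
    [Module.Projective A B] (f : A →+* B) (hf : f = algebraMap A B) :
    letI := f.toAlgebra; Module.Projective A B := by
  have : f.toAlgebra = inst := Algebra.algebra_ext _ _ (fun r => RingHom.congr_fun hf r)
  rw [this]; infer_instance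

/-- Base changes of schemes over a field are essentially free. -/
theorem projCover_field {K : Type u} [Field K] (X Y : Over (Spec (CommRingCat.of K))) :
    ProjCover (fst X Y).left := by
  show ProjCover (pullback.fst X.hom Y.hom)
  intro U q hq
  obtain ⟨_, ⟨V, hV, rfl⟩, hyV, -⟩ :=
    Y.left.isBasis_affineOpens.exists_subset_of_mem_open
      (Set.mem_univ (pullback.snd X.hom Y.hom q)) isOpen_univ
  let ψA : CommRingCat.of K ⟶ Γ(X.left, U) := Spec.preimage (U.2.fromSpec ≫ X.hom)
  let ψC : CommRingCat.of K ⟶ Γ(Y.left, V) := Spec.preimage (hV.fromSpec ≫ Y.hom)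
  let : Algebra K Γ(X.left, U) := ψA.hom.toAlgebra
  let : Algebra K Γ(Y.left, V) := ψC.hom.toAlgebra
  let A : Type u := Γ(X.left, U)
  let C : Type u := Γ(Y.left, V)
  have hA : Spec.map (CommRingCat.ofHom (algebraMap K A)) = U.2.fromSpec ≫ X.hom :=
    Spec.map_preimage _
  have hC : Spec.map (CommRingCat.ofHom (algebraMap K C)) = hV.fromSpec ≫ Y.hom :=
    Spec.map_preimage _
  let u' := pullback.map (Spec.map (CommRingCat.ofHom (algebraMap K A)))
    (Spec.map (CommRingCat.ofHom (algebraMap K C))) X.hom Y.hom U.2.fromSpec hV.fromSpec (𝟙 _)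
    (by rw [hA, Category.comp_id]) (by rw [hC, Category.comp_id])
  have hu : IsOpenImmersion u' :=
    MorphismProperty.pullbackMap (P := @IsOpenImmersion) (inferInstanceAs (IsOpenImmersion U.2.fromSpec))
      (inferInstanceAs (IsOpenImmersion hV.fromSpec)) hA hC
  refine ⟨CommRingCat.of (A ⊗[K] C),
    CommRingCat.ofHom (Algebra.TensorProduct.includeLeftRingHom (R := K) (A := A) (B := C)),
    (pullbackSpecIso K A C).inv ≫ u', inferInstance, ?_, ?_, ?_⟩
  · obtain ⟨z, hz⟩ : q ∈ Set.range u' := by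
      rw [Scheme.Pullback.range_map, U.2.range_fromSpec, hV.range_fromSpec]
      exact ⟨hq, hyV⟩
    obtain ⟨w, rfl⟩ := (pullbackSpecIso K A C).inv.homeomorph.surjective z
    exact ⟨w, hz⟩
  · rw [Category.assoc, pullback.lift_fst, ← Category.assoc, pullbackSpecIso_inv_fst]
  · exact projective_toAlgebra
      (Algebra.TensorProduct.includeLeftRingHom (R := K) (A := A) (B := C)) rfl

/-- Finite locally free morphisms are essentially free. -/
theorem projCover_finLocFree {Y T : Scheme.{u}} (p : Y ⟶ T) [IsFinite p] [Flat p]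
    [LocallyOfFinitePresentation p] : ProjCover p := by
  intro U y hy
  have hV : IsAffineOpen (p ⁻¹ᵁ U.1) := U.2.preimage p
  let θ : Γ(T, U) ⟶ Γ(Y, p ⁻¹ᵁ U.1) := p.app U.1
  have hfin : θ.hom.Finite := IsFinite.finite_app (f := p) U.1 U.2
  have hflat : θ.hom.Flat := by
    have := HasRingHomProperty.appLE (P := @Flat) p inferInstance U ⟨_, hV⟩ le_rfl
    rwa [← Scheme.Hom.app_eq_appLE] at this
  have hfp : θ.hom.FinitePresentation := by
    have := HasRingHomProperty.appLE (P := @LocallyOfFinitePresentation) p inferInstance U ⟨_, hV⟩ le_rfl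
    rwa [← Scheme.Hom.app_eq_appLE] at this
  refine ⟨_, θ, hV.fromSpec, inferInstance, ?_, ?_, ?_⟩
  · rw [hV.range_fromSpec]; exact hy
  · rw [show θ = p.appLE U.1 (p ⁻¹ᵁ U.1) le_rfl from Scheme.Hom.app_eq_appLE _,
      IsAffineOpen.SpecMap_appLE_fromSpec p U.2 hV le_rfl]
  · let := θ.hom.toAlgebra
    have : Module.Finite Γ(T, U) Γ(Y, p ⁻¹ᵁ U.1) := hfin
    have : Module.Flat Γ(T, U) Γ(Y, p ⁻¹ᵁ U.1) := hflat
    have : Algebra.FinitePresentation Γ(T, U) Γ(Y, p ⁻¹ᵁ U.1) := hfp
    have : Module.FinitePresentation Γ(T, U) Γ(Y, p ⁻¹ᵁ U.1) :=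
      Module.FinitePresentation.of_finite_of_finitePresentation _ _
    exact Module.Flat.projective_of_finitePresentation

variable {S : Scheme.{u}}

/-- The locus of points `x` of `X` with `{x} × Y` inside a closed subscheme of `X ⊗ Y`. -/
theorem exists_closed_forall_points {X Y E : Over S} (e : E ⟶ X ⊗ Y) [IsClosedImmersion e.left]
    (hp : ProjCover (fst X Y).left) :
    ∃ (Z : Over S) (z : Z ⟶ X), IsClosedImmersion z.left ∧
      ∀ (T : Over S) (g : T ⟶ X), (∃ w, w ≫ z = g) ↔
        ∀ (T' : Over S) (t : T' ⟶ T) (y : T' ⟶ Y), ∃ l : T' ⟶ E, l ≫ e = lift (t ≫ g) y := by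
  obtain ⟨Z, ι, hι, hZ⟩ := exists_closed_locus (fst X Y).left e.left hp
  refine ⟨Over.mk (ι ≫ X.hom), Over.homMk ι, hι, fun T g => ?_⟩
  have sq := ((GrothLib.GrpSchField.isPullback_whiskerRight g Y).map (Over.forget S))
  have h1 : (∃ w, w ≫ (Over.homMk ι : Over.mk (ι ≫ X.hom) ⟶ X) = g) ↔ ∃ w, w ≫ ι = g.left := by
    refine ⟨fun ⟨w, hw⟩ => ⟨w.left, congrArg CommaMorphism.left hw⟩, fun ⟨w, hw⟩ => ?_⟩
    exact ⟨Over.homMk w (show w ≫ ι ≫ X.hom = T.hom by rw [reassoc_of% hw]; exact Over.w g),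
      Over.OverMorphism.ext hw⟩
  rw [h1, hZ]
  constructor
  · rintro ⟨l, hl⟩ T' t y
    let c : T'.left ⟶ pullback (fst X Y).left g.left :=
      pullback.lift ((lift t y).left ≫ (g ▷ Y).left) ((lift t y).left ≫ (fst T Y).left)
        (by rw [Category.assoc, Category.assoc]; exact congrArg ((lift t y).left ≫ ·) sq.w)
    have hc : (c ≫ l) ≫ e.left = (lift (t ≫ g) y).left := by
      rw [Category.assoc, hl, pullback.lift_fst, ← Over.comp_left, lift_whiskerRight]
    refine ⟨Over.homMk (c ≫ l) ?_, Over.OverMorphism.ext hc⟩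
    rw [← Over.w e, ← Category.assoc, hc]
    exact Over.w (lift (t ≫ g) y)
  · intro h
    obtain ⟨l, hl⟩ := h (T ⊗ Y) (fst T Y) (snd T Y)
    refine ⟨sq.isoPullback.inv ≫ l.left, ?_⟩
    have h2 : lift (fst T Y ≫ g) (snd T Y) = g ▷ Y := by
      rw [← lift_whiskerRight, lift_fst_snd, Category.id_comp]
    rw [Category.assoc]
    exact (congrArg (sq.isoPullback.inv ≫ ·)
      ((congrArg CommaMorphism.left hl).trans (congrArg CommaMorphism.left h2))).trans
        sq.isoPullback_inv_fst

/-- The locus of points at which two families of points agree, when the equalizer is closed. -/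
theorem exists_closed_forall_eq' {X Y G : Over S} (a b : X ⊗ Y ⟶ G)
    [IsClosedImmersion (pullback.fst (lift a b) (lift (𝟙 G) (𝟙 G))).left]
    (hp : ProjCover (fst X Y).left) :
    ∃ (Z : Over S) (z : Z ⟶ X), IsClosedImmersion z.left ∧
      ∀ (T : Over S) (g : T ⟶ X), (∃ w, w ≫ z = g) ↔
        ∀ (T' : Over S) (t : T' ⟶ T) (y : T' ⟶ Y), lift (t ≫ g) y ≫ a = lift (t ≫ g) y ≫ b := by
  let Δ : G ⟶ G ⊗ G := lift (𝟙 G) (𝟙 G)
  obtain ⟨Z, z, hz, hZ⟩ := exists_closed_forall_points (pullback.fst (lift a b) Δ) hp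
  refine ⟨Z, z, hz, fun T g => (hZ T g).trans (forall₃_congr fun T' t y => ?_)⟩
  constructor
  · rintro ⟨l, hl⟩
    have h : lift (t ≫ g) y ≫ lift a b = (l ≫ pullback.snd (lift a b) Δ) ≫ Δ := by
      rw [← hl, Category.assoc, Category.assoc, pullback.condition]
    have h1 := congrArg (· ≫ fst G G) h
    have h2 := congrArg (· ≫ snd G G) h
    simp [Δ] at h1 h2
    exact h1.trans h2.symm
  · intro h
    refine ⟨pullback.lift (lift (t ≫ g) y) (lift (t ≫ g) y ≫ a) ?_, pullback.lift_fst _ _ _⟩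
    apply CartesianMonoidalCategory.hom_ext <;> simp [Δ, h]

/-- The locus of points at which two families of points of a separated scheme agree. -/
theorem exists_closed_forall_eq {X Y G : Over S} [IsSeparated G.hom] (a b : X ⊗ Y ⟶ G)
    (hp : ProjCover (fst X Y).left) :
    ∃ (Z : Over S) (z : Z ⟶ X), IsClosedImmersion z.left ∧
      ∀ (T : Over S) (g : T ⟶ X), (∃ w, w ≫ z = g) ↔
        ∀ (T' : Over S) (t : T' ⟶ T) (y : T' ⟶ Y), lift (t ≫ g) y ≫ a = lift (t ≫ g) y ≫ b := by
  have hΔ : IsClosedImmersion (lift (𝟙 G) (𝟙 G) : G ⟶ G ⊗ G).left := by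
    rw [Over.lift_left]
    exact inferInstanceAs (IsClosedImmersion (pullback.diagonal G.hom))
  have : IsClosedImmersion (pullback.fst (lift a b) (lift (𝟙 G) (𝟙 G))).left :=
    MorphismProperty.of_isPullback (((IsPullback.of_hasPullback (lift a b)
      (lift (𝟙 G) (𝟙 G) : G ⟶ G ⊗ G)).map (Over.forget S))).flip hΔ
  exact exists_closed_forall_eq' a b hp

end GrothLib.EssFree
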