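import Mathlib
import Groth.Prelude.Def_SGA3x
import Groth.Agent.Lib.EssFree.Def
import Groth.Agent.Lib.EssFree.Over
import Groth.Agent.Lib.EssFree.Descent
import Groth.Agent.Lib.DiagGrp.BaseChange
import Groth.Agent.Lib.DiagGrp.KernelFP
import Groth.Agent.Lib.EtSite.FpqcDescent

/-!
Essentially free morphisms: finite locally free morphisms, groups of multiplicative type, and transporters.
-/

open CategoryTheory CategoryTheory.Limits AlgebraicGeometry MonoidalCategory CartesianMonoidalCategory MonObj GrpObj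
open scoped TensorProduct

universe u

set_option backward.isDefEq.respectTransparency.types false

namespace GrothLib.EssFree

/-- The global functions of the source are a projective module over those of the target. -/
def ProjHom {P T : Scheme.{u}} (p : P ⟶ T) : Prop :=
  letI := p.appTop.hom.toAlgebra
  Module.Projective Γ(T, ⊤) Γ(P, ⊤)

/-- A projective module over a projective algebra is projective. -/
theorem projective_trans {R A M : Type u} [CommRing R] [CommRing A] [Algebra R A] [AddCommGroup M]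
    [Module A M] [Module R M] [IsScalarTower R A M] [Module.Projective R A] [Module.Projective A M] :
    Module.Projective R M := by
  classical
  obtain ⟨s, hs⟩ := Module.projective_def'.mp ‹Module.Projective A M›
  haveI : Module.Projective R (M →₀ A) := Module.Projective.of_equiv' (finsuppLequivDFinsupp R).symm
  exact Module.Projective.of_split (s.restrictScalars R) ((Finsupp.linearCombination A id).restrictScalars R)
    (LinearMap.ext fun x => LinearMap.congr_fun hs x)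

theorem ProjHom.comp {P Q T : Scheme.{u}} {a : P ⟶ Q} {b : Q ⟶ T} (ha : ProjHom a) (hb : ProjHom b) :
    ProjHom (a ≫ b) := by
  letI : Algebra Γ(T, ⊤) Γ(Q, ⊤) := b.appTop.hom.toAlgebra
  letI : Algebra Γ(Q, ⊤) Γ(P, ⊤) := a.appTop.hom.toAlgebra
  letI : Algebra Γ(T, ⊤) Γ(P, ⊤) := (a ≫ b).appTop.hom.toAlgebra
  haveI : IsScalarTower Γ(T, ⊤) Γ(Q, ⊤) Γ(P, ⊤) := IsScalarTower.of_algebraMap_eq fun _ => rfl
  haveI : Module.Projective Γ(T, ⊤) Γ(Q, ⊤) := hb
  haveI : Module.Projective Γ(Q, ⊤) Γ(P, ⊤) := ha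
  exact projective_trans (A := Γ(Q, ⊤))

theorem projHom_of_isPullback {P' T' P T : Scheme.{u}} [IsAffine P] [IsAffine T] [IsAffine T'] {a : P' ⟶ P}
    {p' : P' ⟶ T'} {p : P ⟶ T} {k : T' ⟶ T} (h : IsPullback a p' p k) (hp : ProjHom p) : ProjHom p' := by
  have hpo := isPushout_appTop_of_isPullback h
  letI : Algebra Γ(T, ⊤) Γ(P, ⊤) := p.appTop.hom.toAlgebra
  letI : Algebra Γ(T, ⊤) Γ(T', ⊤) := k.appTop.hom.toAlgebra
  letI : Algebra Γ(P, ⊤) Γ(P', ⊤) := a.appTop.hom.toAlgebra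
  letI : Algebra Γ(T', ⊤) Γ(P', ⊤) := p'.appTop.hom.toAlgebra
  letI : Algebra Γ(T, ⊤) Γ(P', ⊤) := (p.appTop ≫ a.appTop).hom.toAlgebra
  haveI : IsScalarTower Γ(T, ⊤) Γ(P, ⊤) Γ(P', ⊤) := IsScalarTower.of_algebraMap_eq fun _ => rfl
  haveI : IsScalarTower Γ(T, ⊤) Γ(T', ⊤) Γ(P', ⊤) :=
    IsScalarTower.of_algebraMap_eq fun r => congrArg (fun q => q.hom r) hpo.w
  have hP : Algebra.IsPushout Γ(T, ⊤) Γ(T', ⊤) Γ(P, ⊤) Γ(P', ⊤) :=
    CommRingCat.isPushout_iff_isPushout.1 hpo.flip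
  haveI : Module.Projective Γ(T, ⊤) Γ(P, ⊤) := hp
  exact Module.Projective.of_equiv hP.out.equiv

theorem projHom_of_finLocFree {P T : Scheme.{u}} [IsAffine T] (p : P ⟶ T) [IsFinite p] [Flat p]
    [LocallyOfFinitePresentation p] : ProjHom p := by
  haveI : IsAffine P := isAffine_of_isAffineHom p
  letI := p.appTop.hom.toAlgebra
  haveI : Module.Finite Γ(T, ⊤) Γ(P, ⊤) := IsFinite.finite_app (f := p) ⊤ (isAffineOpen_top T)
  haveI : Module.Flat Γ(T, ⊤) Γ(P, ⊤) := (HasRingHomProperty.iff_of_isAffine (P := @Flat)).1 ‹Flat p›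
  haveI : Algebra.FinitePresentation Γ(T, ⊤) Γ(P, ⊤) :=
    (HasRingHomProperty.iff_of_isAffine (P := @LocallyOfFinitePresentation)).1 ‹_›
  haveI : Module.FinitePresentation Γ(T, ⊤) Γ(P, ⊤) :=
    Module.FinitePresentation.of_finite_of_finitePresentation _ _
  exact Module.Flat.projective_of_finitePresentation

theorem projHom_specMap {A B : Type u} [CommRing A] [CommRing B] [Algebra A B] [Module.Projective A B] :
    ProjHom (Spec.map (CommRingCat.ofHom (algebraMap A B))) := by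
  letI := (Spec.map (CommRingCat.ofHom (algebraMap A B))).appTop.hom.toAlgebra
  let eA : A ≃+* Γ(Spec (CommRingCat.of A), ⊤) := (Scheme.ΓSpecIso (CommRingCat.of A)).symm.commRingCatIsoToRingEquiv
  let eB : B ≃+* Γ(Spec (CommRingCat.of B), ⊤) := (Scheme.ΓSpecIso (CommRingCat.of B)).symm.commRingCatIsoToRingEquiv
  letI : RingHomInvPair (eA : A →+* Γ(Spec (CommRingCat.of A), ⊤)) eA.symm := RingHomInvPair.of_ringEquiv eA
  letI : RingHomInvPair (eA.symm : Γ(Spec (CommRingCat.of A), ⊤) →+* A) eA :=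
    RingHomInvPair.symm _ _
  have hc : ∀ a, eB (algebraMap A B a) =
      algebraMap Γ(Spec (CommRingCat.of A), ⊤) Γ(Spec (CommRingCat.of B), ⊤) (eA a) := fun a =>
    congrArg (fun φ => φ.hom a) (Scheme.ΓSpecIso_inv_naturality (CommRingCat.ofHom (algebraMap A B)))
  let e : B ≃ₛₗ[(eA : A →+* Γ(Spec (CommRingCat.of A), ⊤))] Γ(Spec (CommRingCat.of B), ⊤) :=
    { eB.toAddEquiv with
      map_smul' := fun a b => by
        show eB (a • b) = eA a • eB b
        rw [Algebra.smul_def, Algebra.smul_def, map_mul, hc] }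
  exact Module.Projective.of_equiv e

theorem isClosedImmersion_sigmaι {σ : Type u} [Finite σ] (g : σ → Scheme.{u}) (i : σ) :
    IsClosedImmersion (Sigma.ι g i) := by
  refine IsClosedImmersion.of_isPreimmersion _ ?_
  have : Set.range (Sigma.ι g i) = (⋃ j : {j // j ≠ i}, Set.range (Sigma.ι g j.1))ᶜ := by
    ext z
    rw [Set.mem_compl_iff, Set.mem_iUnion]
    constructor
    · rintro hz ⟨⟨j, hj⟩, hzj⟩
      exact (Set.disjoint_left.1 (TopologicalSpace.Opens.coe_disjoint.2 (disjoint_opensRange_sigmaι g i j hj.symm)) hz) hzj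
    · intro hz
      obtain ⟨j, y, rfl⟩ := (sigmaOpenCover g).exists_eq z
      by_cases hj : j = i
      · subst hj; exact ⟨y, rfl⟩
      · exact absurd ⟨⟨j, hj⟩, y, rfl⟩ hz
  rw [this, isClosed_compl_iff]
  exact isOpen_iUnion fun j => (Sigma.ι g j.1).isOpenEmbedding.isOpen_range

theorem of_iso {X X' S : Scheme.{u}} (f : X ⟶ S) (e : X' ≅ X) (h : SGA3x.IsEssentiallyFree f) :
    SGA3x.IsEssentiallyFree (e.hom ≫ f) := by
  intro s
  obtain ⟨U, hsU, hU, S₁, hS₁, g, hgf, hgs, hproj⟩ := h s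
  refine ⟨U, hsU, hU, S₁, hS₁, g, hgf, hgs, fun x => ?_⟩
  let m : pullback (e.hom ≫ f) (g ≫ U.ι) ⟶ pullback f (g ≫ U.ι) :=
    pullback.map _ _ _ _ e.hom (𝟙 _) (𝟙 _) (by simp) (by simp)
  haveI : IsIso m := inferInstanceAs (IsIso (pullback.map _ _ _ _ _ _ _ _ _))
  obtain ⟨V, hxV, hV, hVp⟩ := hproj (m x)
  haveI : IsAffine (V : Scheme.{u}) := hV
  refine ⟨m ⁻¹ᵁ V, hxV, hV.preimage m, ?_⟩
  haveI : IsAffine ((m ⁻¹ᵁ V : _) : Scheme.{u}) := hV.preimage m
  show ProjHom _
  have he : (m ⁻¹ᵁ V).ι ≫ pullback.snd (e.hom ≫ f) (g ≫ U.ι) =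
      (m ∣_ V) ≫ V.ι ≫ pullback.snd f (g ≫ U.ι) := by
    rw [morphismRestrict_ι_assoc, pullback.lift_snd, Category.comp_id]
  rw [he]
  exact (projHom_of_finLocFree (m ∣_ V)).comp hVp

theorem of_finLocFree {X S : Scheme.{u}} (f : X ⟶ S) [IsFinite f] [Flat f]
    [LocallyOfFinitePresentation f] : SGA3x.IsEssentiallyFree f := by
  intro s
  obtain ⟨U, hU, hsU, -⟩ := exists_isAffineOpen_mem_and_subset (x := s) (U := (⊤ : S.Opens)) trivial
  haveI : IsAffine (U : Scheme.{u}) := hU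
  refine ⟨U, hsU, hU, U, inferInstance, 𝟙 _, inferInstance, inferInstance, fun x => ⟨⊤, trivial, ?_, ?_⟩⟩
  · haveI : IsAffine (pullback f (𝟙 _ ≫ U.ι) : Scheme.{u}) := isAffine_of_isAffineHom (pullback.snd f (𝟙 _ ≫ U.ι))
    exact isAffineOpen_top _
  · haveI : IsFinite (pullback.snd f (𝟙 _ ≫ U.ι)) := MorphismProperty.pullback_snd _ _ ‹_›
    haveI : Flat (pullback.snd f (𝟙 _ ≫ U.ι)) := MorphismProperty.pullback_snd _ _ ‹_›
    haveI : LocallyOfFinitePresentation (pullback.snd f (𝟙 _ ≫ U.ι)) := MorphismProperty.pullback_snd _ _ ‹_›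
    haveI : IsIso (⊤ : (pullback f (𝟙 _ ≫ U.ι)).Opens).ι :=
      inferInstanceAs (IsIso (Scheme.topIso _).hom)
    exact (projHom_of_finLocFree (⊤ : (pullback f (𝟙 _ ≫ U.ι)).Opens).ι).comp (projHom_of_finLocFree _)

theorem projHom_diag (M : Type) [AddCommGroup M] : ProjHom (Red.diag (ULift.{u} ℤ) M).hom :=
  projHom_specMap (A := ULift.{u} ℤ) (B := MonoidAlgebra (ULift.{u} ℤ) (Multiplicative M))

theorem isAffineHom_bc {S W : Scheme.{u}} (f : W ⟶ S) (H : Over S) [GrpObj H] {M : Type} [AddCommGroup M]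
    (e : Grp.mk (Red.bc f H) ≅ Grp.mk (Red.DS W M)) [IsAffine W] :
    IsAffine (pullback H.hom f) ∧ ProjHom (pullback.snd H.hom f) := by
  let i : Red.bc f H ≅ Red.DS W M := (Grp.forget (Over W)).mapIso e
  haveI : IsAffine (Red.diag (ULift.{u} ℤ) M).left := inferInstanceAs (IsAffine (Spec _))
  haveI : IsAffine (Red.DS W M).left :=
    inferInstanceAs (IsAffine (pullback (Red.diag (ULift.{u} ℤ) M).hom _))
  haveI : IsIso i.hom.left := inferInstanceAs (IsIso ((Over.forget W).mapIso i).hom)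
  haveI hA : IsAffine (Red.bc f H).left := .of_isIso i.hom.left
  refine ⟨hA, ?_⟩
  show ProjHom (Red.bc f H).hom
  rw [← Over.w i.hom]
  exact (projHom_of_finLocFree i.hom.left).comp
    (projHom_of_isPullback (T' := W) (IsPullback.of_hasPullback _ _) (projHom_diag M))

theorem of_multTypeFT {S : Scheme.{u}} (H : Over S) [GrpObj H] (hH : SGA3x.IsMultTypeFT H) :
    SGA3x.IsEssentiallyFree H.hom := by
  intro s
  obtain ⟨V, hV, hsV, -⟩ := exists_isAffineOpen_mem_and_subset (x := s) (U := (⊤ : S.Opens)) trivial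
  haveI : IsAffine (V : Scheme.{u}) := hV
  obtain ⟨W, q, hqf, hqs, hqc, hloc⟩ := (DiagGrp.hasChartsFpqc_of_isMultTypeFT hH).coverBy V hV
  choose R hwR hRa M instM hM hch using hloc
  haveI : CompactSpace W := QuasiCompact.compactSpace_of_compactSpace q
  obtain ⟨t, ht⟩ := isCompact_univ.elim_finite_subcover (fun w => ((R w : W.Opens) : Set W))
    (fun w => (R w).2) fun w _ => Set.mem_iUnion.2 ⟨w, hwR w⟩
  let σ : Type u := {w : W // w ∈ t}
  haveI : Finite σ := Finite.of_fintype _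
  let gi : σ → Scheme.{u} := fun i => (R i.1 : Scheme.{u})
  haveI : ∀ i, IsAffine (gi i) := fun i => hRa i.1
  let g : (∐ gi) ⟶ (V : Scheme.{u}) := Sigma.desc fun i => (R i.1).ι ≫ q
  haveI : Flat g := by
    refine IsZariskiLocalAtSource.of_openCover (P := @Flat) (sigmaOpenCover gi) fun i => ?_
    show Flat (Sigma.ι gi i ≫ g)
    rw [Sigma.ι_desc]
    infer_instance
  haveI : Surjective g := ⟨fun v => by
    obtain ⟨w, rfl⟩ := q.surjective v
    obtain ⟨i, hi, hwi⟩ := Set.mem_iUnion₂.1 (ht (Set.mem_univ w))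
    refine ⟨Sigma.ι gi ⟨i, hi⟩ ⟨w, hwi⟩, ?_⟩
    rw [← Scheme.Hom.comp_apply, Sigma.ι_desc]
    rfl⟩
  refine ⟨V, hsV, hV, ∐ gi, inferInstance, g, inferInstance, inferInstance, fun x => ?_⟩
  obtain ⟨i, r, hr⟩ := (sigmaOpenCover gi).exists_eq (pullback.snd H.hom (g ≫ V.ι) x)
  let f' : gi i ⟶ S := (R i.1).ι ≫ q ≫ V.ι
  have hf' : Sigma.ι gi i ≫ g ≫ V.ι = f' := by rw [Sigma.ι_desc_assoc, Category.assoc]
  let m : pullback H.hom f' ⟶ pullback H.hom (g ≫ V.ι) :=
    pullback.map _ _ _ _ (𝟙 _) (Sigma.ι gi i) (𝟙 _) (by simp) (by rw [Category.comp_id, hf'])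
  haveI : IsOpenImmersion m := MorphismProperty.pullbackMap (P := @IsOpenImmersion) inferInstance
    (inferInstanceAs (IsOpenImmersion (Sigma.ι gi i))) (Category.id_comp _).symm hf'.symm
  obtain ⟨e⟩ := hch i.1
  obtain ⟨hQ, hQp⟩ := isAffineHom_bc f' H e
  refine ⟨m.opensRange, ?_, isAffineOpen_opensRange m, ?_⟩
  · show x ∈ Set.range m
    rw [Scheme.Pullback.range_map]
    exact ⟨⟨_, rfl⟩, r, hr⟩
  · haveI : IsAffine (m.opensRange : Scheme.{u}) := isAffineOpen_opensRange m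
    show ProjHom _
    have he : m.opensRange.ι ≫ pullback.snd H.hom (g ≫ V.ι) =
        m.isoOpensRange.inv ≫ pullback.snd H.hom f' ≫ Sigma.ι gi i := by
      rw [← Scheme.Hom.isoOpensRange_inv_comp, Category.assoc, pullback.lift_snd]
    rw [he]
    haveI := isClosedImmersion_sigmaι gi i
    exact (projHom_of_finLocFree m.isoOpensRange.inv).comp (hQp.comp (projHom_of_finLocFree _))

theorem isAffineHom_multTypeFT {S : Scheme.{u}} (H : Over S) [GrpObj H] (hH : SGA3x.IsMultTypeFT H) :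
    IsAffineHom H.hom := by
  obtain ⟨S', f, h1, h2, h3, h4⟩ := hH
  have h : IsAffineHom (toUnit H).left :=
    DiagGrp.of_charts @IsAffineHom (G := H) (fun _ _ => True)
      ⟨S', f, h1, h2, h3, fun s' => by
        obtain ⟨U, hU, M, inst, _, e⟩ := h4 s'
        exact ⟨U, hU, M, inst, trivial, e⟩⟩ (toUnit H) fun {W} _ g {M} inst _ e => by
      haveI : IsIso (pullback.snd (𝟙_ (Over S)).hom g) := inferInstanceAs (IsIso (pullback.snd (𝟙 S) g))
      rw [← MorphismProperty.cancel_right_of_respectsIso @IsAffineHom _ (pullback.snd (𝟙_ (Over S)).hom g)]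
      have h5 : ((Over.pullback g).map (toUnit H)).left ≫ pullback.snd (𝟙_ (Over S)).hom g = (Red.bc g H).hom :=
        pullback.lift_snd _ _ _
      rw [h5]
      haveI : IsAffine (Red.bc g H).left := (isAffineHom_bc g H e).1
      exact isAffineHom_of_isAffine _
  rw [← Over.w (toUnit H)]
  exact (MorphismProperty.cancel_right_of_respectsIso @IsAffineHom _ (𝟙 S)).mpr h

variable {S : Scheme.{u}}

/-- The locus of points `x` of `X` with `{x} × Y` inside a closed subscheme of `X ⊗ Y`. -/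
theorem exists_closed_forall_points_essFree {X Y E : Over S} (e : E ⟶ X ⊗ Y) [IsClosedImmersion e.left]
    (hY : SGA3x.IsEssentiallyFree Y.hom) :
    ∃ (Z : Over S) (z : Z ⟶ X), IsClosedImmersion z.left ∧
      (QuasiCompact Y.hom → LocallyOfFinitePresentation e.left → LocallyOfFinitePresentation z.left) ∧
      ∀ (T : Over S) (g : T ⟶ X), (∃ w, w ≫ z = g) ↔
        ∀ (T' : Over S) (t : T' ⟶ T) (y : T' ⟶ Y), ∃ l : T' ⟶ E, l ≫ e = lift (t ≫ g) y := by
  have hfst : (fst X Y).left = (pullbackSymmetry X.hom Y.hom).hom ≫ pullback.snd Y.hom X.hom :=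
    (pullbackSymmetry_hom_comp_snd _ _).symm
  have hp : SGA3x.IsEssentiallyFree (fst X Y).left := by
    rw [hfst]
    exact of_iso _ _ (baseChange X.hom hY)
  obtain ⟨Z, zι, hι, hZ, hfp⟩ := exists_closed_essFree (fst X Y).left hp e.left
  refine ⟨Over.mk (zι ≫ X.hom), Over.homMk zι, hι, fun hqc he => hfp ?_ he, fun T g => ?_⟩
  · show QuasiCompact (pullback.fst X.hom Y.hom)
    exact MorphismProperty.pullback_fst _ _ hqc
  have sq := ((GrothLib.GrpSchField.isPullback_whiskerRight g Y).map (Over.forget S))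
  have h1 : (∃ w, w ≫ (Over.homMk zι : Over.mk (zι ≫ X.hom) ⟶ X) = g) ↔ ∃ w, w ≫ zι = g.left := by
    refine ⟨fun ⟨w, hw⟩ => ⟨w.left, congrArg CommaMorphism.left hw⟩, fun ⟨w, hw⟩ => ?_⟩
    exact ⟨Over.homMk w (show w ≫ zι ≫ X.hom = T.hom by rw [reassoc_of% hw]; exact Over.w g),
      Over.OverMorphism.ext hw⟩
  rw [h1, hZ]
  constructor
  · rintro ⟨l, hl⟩ T' t y
    let c : T'.left ⟶ pullback (fst X Y).left g.left :=
      pullback.lift ((lift t y).left ≫ (g ▷ Y).left) ((lift t y).left ≫ (fst T Y).left)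
        (by rw [Category.assoc, Category.assoc]; exact congrArg ((lift t y).left ≫ ·) sq.w)
    have hc : (c ≫ l) ≫ e.left = (lift (t ≫ g) y).left := by
      rw [Category.assoc, hl, pullback.lift_fst, ← Over.comp_left, lift_whiskerRight]
    refine ⟨Over.homMk (c ≫ l) ?_, Over.OverMorphism.ext hc⟩
    rw [← Over.w e, ← Category.assoc, hc]
    exact Over.w (lift (t ≫ g) y)
  · intro h
    obtain ⟨l, hl⟩ := h (T ⊗ Y) (fst T Y) (snd T Y)
    refine ⟨sq.isoPullback.inv ≫ l.left, ?_⟩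
    have h2 : lift (fst T Y ≫ g) (snd T Y) = g ▷ Y := by
      rw [← lift_whiskerRight, lift_fst_snd, Category.id_comp]
    rw [Category.assoc]
    exact (congrArg (sq.isoPullback.inv ≫ ·)
      ((congrArg CommaMorphism.left hl).trans (congrArg CommaMorphism.left h2))).trans
        sq.isoPullback_inv_fst

/-- The transporter into a closed subscheme of finite presentation is closed of finite presentation. -/
theorem exists_closed_transporter (G Y Y' : Over S) [GrpObj G]
    (hG : LocallyOfFinitePresentation G.hom) (y : Y ⟶ G) (hY : SGA3x.IsEssentiallyFree Y.hom)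
    [QuasiCompact Y.hom] (y' : Y' ⟶ G) [IsClosedImmersion y'.left]
    (hY' : LocallyOfFinitePresentation Y'.hom) :
    ∃ (C : Over S) (c : C ⟶ G), IsClosedImmersion c.left ∧ LocallyOfFinitePresentation C.hom ∧
      ∀ (X : Over S) (g : X ⟶ G), (∃ z : X ⟶ C, z ≫ c = g) ↔
        ∀ (X' : Over S) (x : X' ⟶ X) (a : X' ⟶ Y), ∃ a' : X' ⟶ Y', (x ≫ g) * (a ≫ y) * (x ≫ g)⁻¹ = a' ≫ y' := by
  haveI hy'fp : LocallyOfFinitePresentation y'.left := by
    haveI : LocallyOfFinitePresentation (y'.left ≫ G.hom) := by rwa [Over.w y']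
    exact DiagGrp.lfp_of_comp_of_lft y'.left G.hom inferInstance inferInstance
  let c : G ⊗ Y ⟶ G := fst G Y * (snd G Y ≫ y) * (fst G Y)⁻¹
  have sq := (IsPullback.of_hasPullback c y').map (Over.forget S)
  haveI : IsClosedImmersion (pullback.fst c y').left :=
    MorphismProperty.of_isPullback sq.flip ‹IsClosedImmersion y'.left›
  have hefp : LocallyOfFinitePresentation (pullback.fst c y').left :=
    MorphismProperty.of_isPullback sq.flip hy'fp
  obtain ⟨Z, z, hz, hzfp, hZ⟩ := exists_closed_forall_points_essFree (pullback.fst c y') hY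
  refine ⟨Z, z, hz, ?_, fun X g => (hZ X g).trans (forall₃_congr fun X' x a => ?_)⟩
  · haveI := hzfp inferInstance hefp
    rw [← Over.w z]
    infer_instance
  have hc : lift (x ≫ g) a ≫ c = (x ≫ g) * (a ≫ y) * (x ≫ g)⁻¹ := by
    simp [c, MonObj.comp_mul, GrpObj.comp_inv]
  constructor
  · rintro ⟨l, hl⟩
    refine ⟨l ≫ pullback.snd c y', ?_⟩
    rw [← hc, ← hl, Category.assoc, Category.assoc, pullback.condition]
  · rintro ⟨a', ha'⟩
    exact ⟨pullback.lift (lift (x ≫ g) a) a' (hc.trans ha'), pullback.lift_fst _ _ _⟩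

end GrothLib.EssFree
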