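import Mathlib.CategoryTheory.Monoidal.Cartesian.Grp

/-!
Subgroup objects from monomorphisms whose points are subgroups.
-/

open CategoryTheory MonoidalCategory CartesianMonoidalCategory MonObj GrpObj

namespace GrothLib.EssFree

universe v u

variable {C : Type u} [Category.{v} C] [CartesianMonoidalCategory C]

theorem exists_grpObj_of_mono {G N : C} [GrpObj G] (n : N ⟶ G) [Mono n]
    (hone : ∀ T : C, ∃ z : T ⟶ N, z ≫ n = 1)
    (hmul : ∀ (T : C) (a b : T ⟶ N), ∃ z : T ⟶ N, z ≫ n = (a ≫ n) * (b ≫ n))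
    (hinv : ∀ (T : C) (a : T ⟶ N), ∃ z : T ⟶ N, z ≫ n = (a ≫ n)⁻¹) :
    ∃ _ : GrpObj N, IsMonHom n := by
  obtain ⟨e, he⟩ := hone (𝟙_ C)
  obtain ⟨m, hm⟩ := hmul (N ⊗ N) (fst N N) (snd N N)
  obtain ⟨i, hi⟩ := hinv N (𝟙 N)
  rw [Category.id_comp] at hi
  have hm' : m ≫ n = (fst N N ≫ n) * (snd N N ≫ n) := hm
  have he' : e ≫ n = η[G] := he.trans (by simp [Hom.one_def, toUnit_unique (toUnit (𝟙_ C)) (𝟙 _)])
  let inst : GrpObj N := {
    one := e
    mul := m
    one_mul := by
      rw [← cancel_mono n, Category.assoc, hm', MonObj.comp_mul, whiskerRight_fst_assoc,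
        whiskerRight_snd_assoc, he']
      simp [Hom.mul_def, leftUnitor_hom]
    mul_one := by
      rw [← cancel_mono n, Category.assoc, hm', MonObj.comp_mul, whiskerLeft_fst_assoc,
        whiskerLeft_snd_assoc, he']
      rw [toUnit_unique (snd N (𝟙_ C)) (toUnit _), ← Hom.one_def, _root_.mul_one, rightUnitor_hom]
    mul_assoc := by
      rw [← cancel_mono n, Category.assoc, Category.assoc, Category.assoc, hm']
      simp [MonObj.comp_mul, hm', _root_.mul_assoc]
    inv := i
    left_inv := by
      rw [← cancel_mono n, Category.assoc, Category.assoc, hm', he']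
      simp [MonObj.comp_mul, hi, Hom.one_def]
    right_inv := by
      rw [← cancel_mono n, Category.assoc, Category.assoc, hm', he']
      simp [MonObj.comp_mul, hi, Hom.one_def] }
  exact ⟨inst, { one_hom := he', mul_hom := hm'.trans (by
    rw [Hom.mul_def, tensorHom_def']
    congr 1
    apply CartesianMonoidalCategory.hom_ext <;> simp) }⟩

end GrothLib.EssFree
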