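import Groth.Agent.Lib.EssFree.Transporter
import Groth.Agent.Lib.GenFree.Presentation
import Mathlib

/-!
Generic essential freeness: over an integral base a quasi-compact morphism locally of finite type is
essentially free over a nonempty open.
-/

open CategoryTheory CategoryTheory.Limits AlgebraicGeometry
open scoped TensorProduct

universe u

set_option backward.isDefEq.respectTransparency.types false

namespace GrothLib.EssFree

/-- A morphism to an affine scheme which is affine-locally projective is essentially free. -/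
theorem of_projHom_cover {P T : Scheme.{u}} [IsAffine T] (p : P ⟶ T)
    (h : ∀ x : P, ∃ V : P.Opens, x ∈ V ∧ IsAffineOpen V ∧ ProjHom (V.ι ≫ p)) :
    SGA3x.IsEssentiallyFree p := by
  intro s
  let g : T ⟶ ((⊤ : T.Opens) : Scheme.{u}) := T.topIso.inv
  haveI : IsIso (g ≫ (⊤ : T.Opens).ι) := inferInstanceAs (IsIso (T.topIso.inv ≫ T.topIso.hom))
  have hg : g ≫ (⊤ : T.Opens).ι = 𝟙 T := T.topIso.inv_hom_id
  refine ⟨⊤, trivial, isAffineOpen_top T, T, inferInstance, g, inferInstance, inferInstance, fun x => ?_⟩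
  let e := pullback.fst p (g ≫ (⊤ : T.Opens).ι)
  obtain ⟨V, hxV, hV, hp⟩ := h (e x)
  haveI : IsAffine (V : Scheme.{u}) := hV
  refine ⟨e ⁻¹ᵁ V, hxV, hV.preimage e, ?_⟩
  haveI : IsAffine ((e ⁻¹ᵁ V : _) : Scheme.{u}) := hV.preimage e
  show ProjHom _
  have he : (e ⁻¹ᵁ V).ι ≫ pullback.snd p (g ≫ (⊤ : T.Opens).ι) = (e ∣_ V) ≫ V.ι ≫ p := by
    have hc : e ≫ p = pullback.snd p (g ≫ (⊤ : T.Opens).ι) := by
      rw [pullback.condition]
      conv_lhs => arg 2; rw [hg]
      rw [Category.comp_id]
    rw [morphismRestrict_ι_assoc, hc]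
  rw [he]
  exact (projHom_of_finLocFree (e ∣_ V)).comp hp

/-- Over an integral base a quasi-compact morphism locally of finite type is essentially free over a
nonempty open. -/
theorem exists_open_essFree {X S : Scheme.{u}} [IsIntegral S] (f : X ⟶ S) [QuasiCompact f]
    [LocallyOfFiniteType f] :
    ∃ U : S.Opens, (U : Set S).Nonempty ∧ SGA3x.IsEssentiallyFree (pullback.snd f U.ι) := by
  classical
  obtain ⟨W, hW, hW₀, -⟩ := exists_isAffineOpen_mem_and_subset (x := genericPoint S) (U := (⊤ : S.Opens)) trivial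
  haveI : Nonempty W := ⟨⟨_, hW₀⟩⟩
  let R : CommRingCat.{u} := Γ(S, W)
  haveI : IsDomain R := inferInstanceAs (IsDomain Γ(S, W))
  let s₀ : Spec R ⟶ S := hW.fromSpec
  haveI : CompactSpace ↥(pullback f s₀) := QuasiCompact.compactSpace_of_compactSpace (pullback.snd f s₀)
  let 𝒱 := (pullback f s₀).affineCover.finiteSubcover
  let A : 𝒱.I₀ → CommRingCat.{u} := fun j => Γ(𝒱.X j, ⊤)
  haveI hAff : ∀ j, IsAffine (𝒱.X j) := fun j => by
    dsimp [𝒱, Scheme.OpenCover.finiteSubcover]
    infer_instance
  let a : ∀ j, Spec (A j) ⟶ pullback f s₀ := fun j => (𝒱.X j).isoSpec.inv ≫ 𝒱.f j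
  let φ : ∀ j, R ⟶ A j := fun j => Spec.preimage (a j ≫ pullback.snd f s₀)
  letI alg : ∀ j, Algebra R (A j) := fun j => (φ j).hom.toAlgebra
  haveI : ∀ j, Algebra.FiniteType R (A j) := fun j => by
    have h : LocallyOfFiniteType (Spec.map (φ j)) := by
      rw [Spec.map_preimage]
      infer_instance
    exact (HasRingHomProperty.Spec_iff (P := @LocallyOfFiniteType)).1 h
  have hfree : ∀ j, ∃ c : R, c ≠ 0 ∧ GrothLib.GenFree.FreeOn c (A j) := fun j => by
    obtain ⟨c, -, hc, h⟩ := GrothLib.GenFree.gf_of_finiteType (R := R) (A j) (A j) 1 one_ne_zero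
    exact ⟨c, hc, h⟩
  choose c hc0 hc using hfree
  let g : R := ∏ j, c j
  have hg : g ≠ 0 := Finset.prod_ne_zero_iff.2 fun j _ => hc0 j
  let Rg : Type u := Localization.Away g
  haveI : Nontrivial Rg :=
    (IsLocalization.injective Rg (M := Submonoid.powers g)
      (powers_le_nonZeroDivisors_of_noZeroDivisors hg)).nontrivial
  haveI : ∀ j, Module.Free Rg (Rg ⊗[R] A j) := fun j =>
    ((hc j).mono (Finset.dvd_prod_of_mem c (Finset.mem_univ j))).free_tensor Rg
  let ψ : Spec (CommRingCat.of Rg) ⟶ Spec R := Spec.map (CommRingCat.ofHom (algebraMap R Rg))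
  haveI : IsOpenImmersion ψ := IsOpenImmersion.of_isLocalization (f := g)
  let s : Spec (CommRingCat.of Rg) ⟶ S := ψ ≫ s₀
  refine ⟨s.opensRange, ⟨_, Set.mem_range_self (Classical.arbitrary _)⟩, ?_⟩
  suffices hs : SGA3x.IsEssentiallyFree (pullback.snd f s) by
    have h1 := baseChange s.isoOpensRange.inv hs
    have h2 := of_iso _ (pullback.congrHom rfl (Scheme.Hom.isoOpensRange_inv_comp s).symm ≪≫
      (pullbackLeftPullbackSndIso f s s.isoOpensRange.inv).symm) h1
    convert h2 using 1
    simp only [Iso.trans_hom, pullback.congrHom_hom, Iso.symm_hom, Category.assoc,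
      pullbackLeftPullbackSndIso_inv_snd_snd]
    exact ((pullback.lift_snd _ _ _).trans (Category.comp_id _)).symm
  refine of_projHom_cover _ fun x => ?_
  let b : pullback f s ⟶ pullback f s₀ := pullback.map _ _ _ _ (𝟙 _) ψ (𝟙 _) (by simp) (by simp [s])
  obtain ⟨j, y, hy⟩ := 𝒱.exists_eq (b x)
  let spA : Spec (CommRingCat.of (A j)) ⟶ Spec (CommRingCat.of R) :=
    Spec.map (CommRingCat.ofHom (algebraMap R (A j)))
  let spR : Spec (CommRingCat.of Rg) ⟶ Spec (CommRingCat.of R) :=
    Spec.map (CommRingCat.ofHom (algebraMap R Rg))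
  have hA : spA = a j ≫ pullback.snd f s₀ := Spec.map_preimage _
  let m' : pullback spR spA ⟶ pullback f s :=
    (pullbackSymmetry _ _).hom ≫
      pullback.map spA spR f s (a j ≫ pullback.fst f s₀) (𝟙 _) s₀
        (by simp [hA, a, pullback.condition])
        (by rw [Category.id_comp])
  let m : Spec (CommRingCat.of (Rg ⊗[R] A j)) ⟶ pullback f s := (pullbackSpecIso R Rg (A j)).inv ≫ m'
  haveI : IsOpenImmersion (a j) := inferInstance
  haveI : IsOpenImmersion m := inferInstance
  refine ⟨m.opensRange, ?_, isAffineOpen_opensRange m, ?_⟩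
  · show x ∈ Set.range m
    rw [show Set.range m = Set.range (pullback.map spA spR f s (a j ≫ pullback.fst f s₀) (𝟙 _) s₀
        (by simp [hA, a, pullback.condition]) (by rw [Category.id_comp])) by
      simp only [m, m', Scheme.Hom.comp_base, TopCat.coe_comp]
      rw [Function.Surjective.range_comp (pullbackSpecIso R Rg (A j)).inv.surjective,
        Function.Surjective.range_comp (pullbackSymmetry spR spA).hom.surjective]]
    rw [Scheme.Pullback.range_map]
    refine ⟨⟨(𝒱.X j).isoSpec.hom y, ?_⟩, _, rfl⟩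
    rw [show pullback.fst f s x = pullback.fst f s₀ (b x) from ?_, ← hy]
    · simp only [← Scheme.Hom.comp_apply, a, Category.assoc, Iso.hom_inv_id_assoc]
    · rw [← Scheme.Hom.comp_apply, pullback.lift_fst, Category.comp_id]
  · haveI : IsAffine (m.opensRange : Scheme.{u}) := isAffineOpen_opensRange m
    have he : m.opensRange.ι ≫ pullback.snd f s =
        m.isoOpensRange.inv ≫ Spec.map (CommRingCat.ofHom (algebraMap Rg (Rg ⊗[R] A j))) := by
      rw [← Scheme.Hom.isoOpensRange_inv_comp, Category.assoc]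
      congr 1
      simp only [m, m', Category.assoc, pullback.lift_snd, Category.comp_id, pullbackSymmetry_hom_comp_snd]
      exact pullbackSpecIso_inv_fst R Rg (A j)
    rw [he]
    exact (projHom_of_finLocFree m.isoOpensRange.inv).comp projHom_specMap

end GrothLib.EssFree
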